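import Cfsg.Agent.Lib.Fi24.Words
import Cfsg.Agent.Lib.Fi24.Data.Table
import Cfsg.Agent.Lib.Fi24.Data.Suborbits
import Cfsg.Agent.Lib.CosetEnum.Fi23Out.Defs
import Cfsg.Agent.Lib.CosetEnum.Fi23x31671.Orbits
import Cfsg.Agent.Lib.FischerUniq24.Data.Gamma
import Cfsg.Agent.Lib.FischerUniq24.Data.Forest

/-!
Checkers for the uniqueness of type M(24).

The letters of Fi23 are `a b c d e f g j h i` (0-9), those of Fi24 are `l k a b c d e f g j h i` (0-11).
The second copy of Fi23 in Fi24, around the point `X` of the first one, has `l` as its base point and the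
letters `g f e d c b a k h i`.
-/

set_option autoImplicit false
set_option maxRecDepth 20000

namespace Cfsg.Agent.Lib.FischerUniq24

open Cfsg.Agent.Lib.CosetEnum (PTree force force_eq allBelow allBelow_iff get32)
open Cfsg.Agent.Lib

/-- The letters of the second copy. -/
def sigL : List ℕ := [8, 7, 6, 5, 4, 3, 2, 1, 10, 11]

/-- The points of the letters of Fi23. -/
def nodeM : List ℕ := [11589, 8004, 8003, 8000, 8001, 8002, 8005, 8006, 7999, 8007]

/-- The letters of 2.Fi22 in Fi23. -/
def nine : List ℕ := [0, 1, 2, 3, 4, 5, 6, 8, 9]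

/-- The nine letters permuted by the symmetry of the diagram. -/
def nineFlip : List ℕ := [6, 5, 4, 3, 2, 1, 0, 8, 9]

/-- The first eight letters: all but `g` and `j`. -/
def gA : List ℕ := [0, 1, 2, 3, 4, 5, 8, 9]

/-- The second eight letters: all but `a` and `j`. -/
def gB : List ℕ := [1, 2, 3, 4, 5, 6, 8, 9]

/-- The letters of the pair stabiliser: all but `a`. -/
def gK : List ℕ := [1, 2, 3, 4, 5, 6, 7, 8, 9]

/-- The same letters in Fi24. -/
def gP : List ℕ := [3, 4, 5, 6, 7, 8, 9, 10, 11]

def rA : List ℕ := [0, 429, 1, 2, 36, 52, 224, 8006]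
def nA : List ℕ := [1, 351, 1, 3159, 3159, 3159, 21840, 1]
def rB : List ℕ := [0, 52, 1, 23118, 11, 91]
def nB : List ℕ := [1, 351, 728, 2160, 25272, 3159]
def rK : List ℕ := [0, 23118, 11]
def nK : List ℕ := [1080, 2160, 28431]

/-- Roots of the forest on the points of Fi24 that lie in the second copy, with their places there. -/
def rTheta : List (ℕ × ℕ) :=
  [(0, 0), (1, 1), (2, 8006), (3, 2), (112, 36), (169, 52), (530, 429), (686, 224)]

/-- The root outside the second copy: in the common neighbours of `l` and `k`. -/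
def rSmall : ℕ × ℕ := (245628, 23118)

/-- A word to a further member of the common neighbours. -/
def rT : List ℕ := [7, 6, 5, 4, 3, 2, 1, 0, 8, 3, 2, 1, 4, 3, 5, 9, 8, 3, 2, 1, 4, 3, 2, 5, 4, 6, 5, 8, 3,
  4, 9, 8, 3, 2, 1, 0]

/-- The transposition of that member as a word. -/
def tWord : List ℕ := CosetEnum.Fi23Out.twWord rT

/-- A field of 30 bits. -/
noncomputable def col30 (P : PTree) (i : ℕ) : ℕ :=
  P.lookup (fun n i => Nat.mod (Nat.shiftRight n (Nat.mul 30 (Nat.land i 1023))) 1073741824) i

/-- A letter on the points of Fi23. -/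
noncomputable def step23 (i g : ℕ) : ℕ := get32 CosetEnum.Fi23x31671.table (Nat.add (Nat.mul i 10) g)

/-- The depth, the parent, the letter and the tree of an entry of a forest on Fi23. -/
noncomputable def gDepth (P : PTree) (i : ℕ) : ℕ := Nat.mod (Nat.div (col30 P i) 16) 128

/-- The number of the tree. -/
noncomputable def gTree (P : PTree) (i : ℕ) : ℕ := Nat.mod (col30 P i) 16

/-- An entry of a forest on the points of Fi23. -/
noncomputable def gFor (P : PTree) (gens roots : List ℕ) (i : ℕ) : Bool :=
  force (col30 P i) fun v => force (Nat.mod v 16) fun r => force (Nat.mod (Nat.div v 16) 128) fun d =>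
    Nat.blt r roots.length &&
    Bool.rec
      (force (Nat.div v 2048) fun e => force (Nat.div e 16) fun p => force (Nat.mod e 16) fun g =>
        Nat.blt p 31671 && gens.any (fun g' => Nat.beq g' g) && Nat.beq (step23 p g) i &&
          force (col30 P p) fun w => Nat.beq (Nat.mod w 16) r && Nat.blt (Nat.mod (Nat.div w 16) 128) d)
      (Nat.beq i (roots.getD r 31671)) (Nat.beq d 0)

/-- The number of points of a tree. -/
noncomputable def countTree (P : PTree) (r : ℕ) : ℕ :=
  Nat.rec 0 (fun i ih => Bool.rec ih (Nat.succ ih) (Nat.beq (gTree P i) r)) 31671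

/-- The depth of an entry of the forest on the points of Fi24. -/
noncomputable def pDepth (i : ℕ) : ℕ := Nat.mod (col30 forP i) 128

/-- An entry of the forest on the points of Fi24. -/
noncomputable def pFor (i : ℕ) : Bool :=
  force (col30 forP i) fun v => force (Nat.mod v 128) fun d =>
    Bool.rec
      (force (Nat.div v 128) fun e => force (Nat.div e 16) fun p => force (Nat.mod e 16) fun g =>
        Nat.blt p 306936 && gP.any (fun g' => Nat.beq g' g) && Nat.beq (Fi24.Cert.tget Fi24.table p g) i &&
          Nat.blt (pDepth p) d)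
      (rTheta.any (fun x => Nat.beq x.1 i) || Nat.beq rSmall.1 i) (Nat.beq d 0)

/-- A point of the second copy. -/
noncomputable def th (m : ℕ) : ℕ := Fi24.Cert.col19 theta m

/-- The second copy follows the letters. -/
noncomputable def thetaAt (m : ℕ) : Bool :=
  force (th m) fun q => Nat.blt q 306936 && allBelow 10 fun g =>
    Nat.beq (Fi24.Cert.tget Fi24.table q (sigL.getD g 0)) (th (step23 m g))

/-- Only the base point is fixed by the second eight letters. -/
noncomputable def moved (i : ℕ) : Bool :=
  Nat.beq i 0 || gB.any fun g => !(Nat.beq (step23 i g) i)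

/-- A word of Fi22 with the letters permuted fixes a point. -/
noncomputable def flipFix (l : List ℕ) (i : ℕ) : Bool :=
  force (get32 CosetEnum.Fi23x31671.orbPts2 i) fun q =>
    Nat.beq (CosetEnum.Fi23Out.sc (l.map fun g => nineFlip.getD g 0) q) q

/-- The number of points fixed by a word. -/
noncomputable def countFix (w : List ℕ) : ℕ :=
  Nat.rec 0 (fun i ih => Bool.rec ih (Nat.succ ih) (Nat.beq (CosetEnum.Fi23Out.sc w i) i)) 31671

end Cfsg.Agent.Lib.FischerUniq24
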