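import Cfsg.Agent.Lib.FischerUniq24.Defs

/-! Checks on the points of Fi24. -/

set_option autoImplicit false
set_option maxRecDepth 20000
set_option Elab.async false

namespace Cfsg.Agent.Lib.FischerUniq24

open Cfsg.Agent.Lib.CosetEnum (allBelow allBelow_iff allFrom allFrom_iff)
open Cfsg.Agent.Lib

theorem forest_part0 : allFrom 0 10000 (pFor) = true := by decide +kernel

theorem forest_part1 : allFrom 10000 10000 (pFor) = true := by decide +kernel

theorem forest_part2 : allFrom 20000 10000 (pFor) = true := by decide +kernel

theorem forest_part3 : allFrom 30000 10000 (pFor) = true := by decide +kernel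

theorem forest_part4 : allFrom 40000 10000 (pFor) = true := by decide +kernel

theorem forest_part5 : allFrom 50000 10000 (pFor) = true := by decide +kernel

theorem forest_part6 : allFrom 60000 10000 (pFor) = true := by decide +kernel

theorem forest_part7 : allFrom 70000 10000 (pFor) = true := by decide +kernel

theorem forest_part8 : allFrom 80000 10000 (pFor) = true := by decide +kernel

theorem forest_part9 : allFrom 90000 10000 (pFor) = true := by decide +kernel

theorem forest_part10 : allFrom 100000 10000 (pFor) = true := by decide +kernel

theorem forest_part11 : allFrom 110000 10000 (pFor) = true := by decide +kernel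

theorem forest_part12 : allFrom 120000 10000 (pFor) = true := by decide +kernel

theorem forest_part13 : allFrom 130000 10000 (pFor) = true := by decide +kernel

theorem forest_part14 : allFrom 140000 10000 (pFor) = true := by decide +kernel

theorem forest_part15 : allFrom 150000 10000 (pFor) = true := by decide +kernel

theorem forest_part16 : allFrom 160000 10000 (pFor) = true := by decide +kernel

theorem forest_part17 : allFrom 170000 10000 (pFor) = true := by decide +kernel

theorem forest_part18 : allFrom 180000 10000 (pFor) = true := by decide +kernel

theorem forest_part19 : allFrom 190000 10000 (pFor) = true := by decide +kernel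

theorem forest_part20 : allFrom 200000 10000 (pFor) = true := by decide +kernel

theorem forest_part21 : allFrom 210000 10000 (pFor) = true := by decide +kernel

theorem forest_part22 : allFrom 220000 10000 (pFor) = true := by decide +kernel

theorem forest_part23 : allFrom 230000 10000 (pFor) = true := by decide +kernel

theorem forest_part24 : allFrom 240000 10000 (pFor) = true := by decide +kernel

theorem forest_part25 : allFrom 250000 10000 (pFor) = true := by decide +kernel

theorem forest_part26 : allFrom 260000 10000 (pFor) = true := by decide +kernel

theorem forest_part27 : allFrom 270000 10000 (pFor) = true := by decide +kernel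

theorem forest_part28 : allFrom 280000 10000 (pFor) = true := by decide +kernel

theorem forest_part29 : allFrom 290000 10000 (pFor) = true := by decide +kernel

theorem forest_part30 : allFrom 300000 6936 (pFor) = true := by decide +kernel

theorem forest_ok : allBelow 306936 (pFor) = true := by
  refine allBelow_iff.2 fun i hi => ?_
  by_cases h : i < 10000
  · exact allFrom_iff.1 forest_part0 i (by omega) (by omega)
  by_cases h : i < 20000
  · exact allFrom_iff.1 forest_part1 i (by omega) (by omega)
  by_cases h : i < 30000
  · exact allFrom_iff.1 forest_part2 i (by omega) (by omega)
  by_cases h : i < 40000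
  · exact allFrom_iff.1 forest_part3 i (by omega) (by omega)
  by_cases h : i < 50000
  · exact allFrom_iff.1 forest_part4 i (by omega) (by omega)
  by_cases h : i < 60000
  · exact allFrom_iff.1 forest_part5 i (by omega) (by omega)
  by_cases h : i < 70000
  · exact allFrom_iff.1 forest_part6 i (by omega) (by omega)
  by_cases h : i < 80000
  · exact allFrom_iff.1 forest_part7 i (by omega) (by omega)
  by_cases h : i < 90000
  · exact allFrom_iff.1 forest_part8 i (by omega) (by omega)
  by_cases h : i < 100000
  · exact allFrom_iff.1 forest_part9 i (by omega) (by omega)
  by_cases h : i < 110000
  · exact allFrom_iff.1 forest_part10 i (by omega) (by omega)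
  by_cases h : i < 120000
  · exact allFrom_iff.1 forest_part11 i (by omega) (by omega)
  by_cases h : i < 130000
  · exact allFrom_iff.1 forest_part12 i (by omega) (by omega)
  by_cases h : i < 140000
  · exact allFrom_iff.1 forest_part13 i (by omega) (by omega)
  by_cases h : i < 150000
  · exact allFrom_iff.1 forest_part14 i (by omega) (by omega)
  by_cases h : i < 160000
  · exact allFrom_iff.1 forest_part15 i (by omega) (by omega)
  by_cases h : i < 170000
  · exact allFrom_iff.1 forest_part16 i (by omega) (by omega)
  by_cases h : i < 180000
  · exact allFrom_iff.1 forest_part17 i (by omega) (by omega)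
  by_cases h : i < 190000
  · exact allFrom_iff.1 forest_part18 i (by omega) (by omega)
  by_cases h : i < 200000
  · exact allFrom_iff.1 forest_part19 i (by omega) (by omega)
  by_cases h : i < 210000
  · exact allFrom_iff.1 forest_part20 i (by omega) (by omega)
  by_cases h : i < 220000
  · exact allFrom_iff.1 forest_part21 i (by omega) (by omega)
  by_cases h : i < 230000
  · exact allFrom_iff.1 forest_part22 i (by omega) (by omega)
  by_cases h : i < 240000
  · exact allFrom_iff.1 forest_part23 i (by omega) (by omega)
  by_cases h : i < 250000
  · exact allFrom_iff.1 forest_part24 i (by omega) (by omega)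
  by_cases h : i < 260000
  · exact allFrom_iff.1 forest_part25 i (by omega) (by omega)
  by_cases h : i < 270000
  · exact allFrom_iff.1 forest_part26 i (by omega) (by omega)
  by_cases h : i < 280000
  · exact allFrom_iff.1 forest_part27 i (by omega) (by omega)
  by_cases h : i < 290000
  · exact allFrom_iff.1 forest_part28 i (by omega) (by omega)
  by_cases h : i < 300000
  · exact allFrom_iff.1 forest_part29 i (by omega) (by omega)
  exact allFrom_iff.1 forest_part30 i (by omega) (by omega)

end Cfsg.Agent.Lib.FischerUniq24
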