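import Cfsg.Agent.Lib.FischerUniq24.Defs

/-! Checks on the points of Fi23. -/

set_option autoImplicit false
set_option maxRecDepth 20000
set_option Elab.async false

namespace Cfsg.Agent.Lib.FischerUniq24

open Cfsg.Agent.Lib.CosetEnum (PTree force force_eq allBelow allBelow_iff allFrom allFrom_iff)
open Cfsg.Agent.Lib

theorem forA_part0 : allFrom 0 4000 (gFor forA gA rA) = true := by decide +kernel

theorem forA_part1 : allFrom 4000 4000 (gFor forA gA rA) = true := by decide +kernel

theorem forA_part2 : allFrom 8000 4000 (gFor forA gA rA) = true := by decide +kernel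

theorem forA_part3 : allFrom 12000 4000 (gFor forA gA rA) = true := by decide +kernel

theorem forA_part4 : allFrom 16000 4000 (gFor forA gA rA) = true := by decide +kernel

theorem forA_part5 : allFrom 20000 4000 (gFor forA gA rA) = true := by decide +kernel

theorem forA_part6 : allFrom 24000 4000 (gFor forA gA rA) = true := by decide +kernel

theorem forA_part7 : allFrom 28000 3671 (gFor forA gA rA) = true := by decide +kernel

theorem forA_ok : allBelow 31671 (gFor forA gA rA) = true := by
  refine allBelow_iff.2 fun i hi => ?_
  by_cases h : i < 4000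
  · exact allFrom_iff.1 forA_part0 i (by omega) (by omega)
  by_cases h : i < 8000
  · exact allFrom_iff.1 forA_part1 i (by omega) (by omega)
  by_cases h : i < 12000
  · exact allFrom_iff.1 forA_part2 i (by omega) (by omega)
  by_cases h : i < 16000
  · exact allFrom_iff.1 forA_part3 i (by omega) (by omega)
  by_cases h : i < 20000
  · exact allFrom_iff.1 forA_part4 i (by omega) (by omega)
  by_cases h : i < 24000
  · exact allFrom_iff.1 forA_part5 i (by omega) (by omega)
  by_cases h : i < 28000
  · exact allFrom_iff.1 forA_part6 i (by omega) (by omega)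
  exact allFrom_iff.1 forA_part7 i (by omega) (by omega)

theorem forB_part0 : allFrom 0 4000 (gFor forB gB rB) = true := by decide +kernel

theorem forB_part1 : allFrom 4000 4000 (gFor forB gB rB) = true := by decide +kernel

theorem forB_part2 : allFrom 8000 4000 (gFor forB gB rB) = true := by decide +kernel

theorem forB_part3 : allFrom 12000 4000 (gFor forB gB rB) = true := by decide +kernel

theorem forB_part4 : allFrom 16000 4000 (gFor forB gB rB) = true := by decide +kernel

theorem forB_part5 : allFrom 20000 4000 (gFor forB gB rB) = true := by decide +kernel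

theorem forB_part6 : allFrom 24000 4000 (gFor forB gB rB) = true := by decide +kernel

theorem forB_part7 : allFrom 28000 3671 (gFor forB gB rB) = true := by decide +kernel

theorem forB_ok : allBelow 31671 (gFor forB gB rB) = true := by
  refine allBelow_iff.2 fun i hi => ?_
  by_cases h : i < 4000
  · exact allFrom_iff.1 forB_part0 i (by omega) (by omega)
  by_cases h : i < 8000
  · exact allFrom_iff.1 forB_part1 i (by omega) (by omega)
  by_cases h : i < 12000
  · exact allFrom_iff.1 forB_part2 i (by omega) (by omega)
  by_cases h : i < 16000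
  · exact allFrom_iff.1 forB_part3 i (by omega) (by omega)
  by_cases h : i < 20000
  · exact allFrom_iff.1 forB_part4 i (by omega) (by omega)
  by_cases h : i < 24000
  · exact allFrom_iff.1 forB_part5 i (by omega) (by omega)
  by_cases h : i < 28000
  · exact allFrom_iff.1 forB_part6 i (by omega) (by omega)
  exact allFrom_iff.1 forB_part7 i (by omega) (by omega)

theorem forK_part0 : allFrom 0 4000 (gFor forK gK rK) = true := by decide +kernel

theorem forK_part1 : allFrom 4000 4000 (gFor forK gK rK) = true := by decide +kernel

theorem forK_part2 : allFrom 8000 4000 (gFor forK gK rK) = true := by decide +kernel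

theorem forK_part3 : allFrom 12000 4000 (gFor forK gK rK) = true := by decide +kernel

theorem forK_part4 : allFrom 16000 4000 (gFor forK gK rK) = true := by decide +kernel

theorem forK_part5 : allFrom 20000 4000 (gFor forK gK rK) = true := by decide +kernel

theorem forK_part6 : allFrom 24000 4000 (gFor forK gK rK) = true := by decide +kernel

theorem forK_part7 : allFrom 28000 3671 (gFor forK gK rK) = true := by decide +kernel

theorem forK_ok : allBelow 31671 (gFor forK gK rK) = true := by
  refine allBelow_iff.2 fun i hi => ?_
  by_cases h : i < 4000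
  · exact allFrom_iff.1 forK_part0 i (by omega) (by omega)
  by_cases h : i < 8000
  · exact allFrom_iff.1 forK_part1 i (by omega) (by omega)
  by_cases h : i < 12000
  · exact allFrom_iff.1 forK_part2 i (by omega) (by omega)
  by_cases h : i < 16000
  · exact allFrom_iff.1 forK_part3 i (by omega) (by omega)
  by_cases h : i < 20000
  · exact allFrom_iff.1 forK_part4 i (by omega) (by omega)
  by_cases h : i < 24000
  · exact allFrom_iff.1 forK_part5 i (by omega) (by omega)
  by_cases h : i < 28000
  · exact allFrom_iff.1 forK_part6 i (by omega) (by omega)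
  exact allFrom_iff.1 forK_part7 i (by omega) (by omega)

theorem moved_part0 : allFrom 0 4000 (moved) = true := by decide +kernel

theorem moved_part1 : allFrom 4000 4000 (moved) = true := by decide +kernel

theorem moved_part2 : allFrom 8000 4000 (moved) = true := by decide +kernel

theorem moved_part3 : allFrom 12000 4000 (moved) = true := by decide +kernel

theorem moved_part4 : allFrom 16000 4000 (moved) = true := by decide +kernel

theorem moved_part5 : allFrom 20000 4000 (moved) = true := by decide +kernel

theorem moved_part6 : allFrom 24000 4000 (moved) = true := by decide +kernel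

theorem moved_part7 : allFrom 28000 3671 (moved) = true := by decide +kernel

theorem moved_ok : allBelow 31671 (moved) = true := by
  refine allBelow_iff.2 fun i hi => ?_
  by_cases h : i < 4000
  · exact allFrom_iff.1 moved_part0 i (by omega) (by omega)
  by_cases h : i < 8000
  · exact allFrom_iff.1 moved_part1 i (by omega) (by omega)
  by_cases h : i < 12000
  · exact allFrom_iff.1 moved_part2 i (by omega) (by omega)
  by_cases h : i < 16000
  · exact allFrom_iff.1 moved_part3 i (by omega) (by omega)
  by_cases h : i < 20000
  · exact allFrom_iff.1 moved_part4 i (by omega) (by omega)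
  by_cases h : i < 24000
  · exact allFrom_iff.1 moved_part5 i (by omega) (by omega)
  by_cases h : i < 28000
  · exact allFrom_iff.1 moved_part6 i (by omega) (by omega)
  exact allFrom_iff.1 moved_part7 i (by omega) (by omega)

theorem counts_ok :
    (allBelow 8 (fun r => Nat.beq (countTree forA r) (nA.getD r 0)) && allBelow 6 (fun r => Nat.beq (countTree forB r) (nB.getD r 0)) &&
      allBelow 3 (fun r => Nat.beq (countTree forK r) (nK.getD r 0))) = true := by
  decide +kernel

theorem small_facts :
    th 0 = 0 ∧ th 8006 = 2 ∧ Fi24.Cert.col19 Fi24.small 0 = 72453 ∧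
    (∀ g < 10, g ≠ 7 → th (nodeM.getD g 0) = Fi24.Cert.col19 Fi24.small (nodeM.getD ([6, 5, 4, 3, 2, 1, 0, 7, 8, 9].getD g 0) 0)) ∧
    (∀ x ∈ rTheta, x.2 < 31671 ∧ th x.2 = x.1) ∧ Fi24.Cert.col19 Fi24.small rSmall.2 = rSmall.1 ∧
    Fi24.Cert.tget Fi24.table rSmall.1 1 = rSmall.1 := by
  decide +kernel

theorem pair_facts :
    Fi24.Cert.tget Fi24.table 0 1 = 1 ∧ Fi24.Cert.tget Fi24.table 1 0 = 2 ∧ Fi24.Cert.tget Fi24.table 2 1 = 2 ∧
    (∀ g ∈ gP, Fi24.Cert.tget Fi24.table 2 g = 2) ∧
    Fi24.Cert.scanT Fi24.table (tWord.map (· + 2)) 2 = 2 ∧ (∀ g ∈ tWord, g < 10) ∧ Odd tWord.length ∧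
    CosetEnum.Fi23Out.sc rT 0 = 23118 ∧ (∀ g ∈ rT, g < 10) := by
  decide +kernel

theorem gamma_facts :
    gTree forA 0 = 0 ∧ gTree forA 11589 = 1 ∧ gTree forB 0 = 0 ∧ gTree forB 8004 = 1 ∧ gTree forB 11589 = 5 ∧
    gTree forB 23118 = 3 ∧ gTree forK 0 = 0 ∧ gTree forK (CosetEnum.Fi23Out.sc tWord 0) = 1 ∧
    CosetEnum.Fi23Out.sc tWord 0 < 31671 ∧ (∀ g ∈ gA, step23 8006 g = 8006) ∧
    CosetEnum.Fi23Out.inO1 8006 = true := by
  decide +kernel

theorem fix_counts :
    countFix CosetEnum.Fi23Orbit.zWord = 3511 ∧ countFix ([1] ++ CosetEnum.Fi23Orbit.zWord) = 695 := by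
  decide +kernel

end Cfsg.Agent.Lib.FischerUniq24
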