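import Cfsg.Agent.Lib.FischerUniq24.Defs

/-! The second copy of Fi23 follows the letters. -/

set_option autoImplicit false
set_option maxRecDepth 20000
set_option Elab.async false

namespace Cfsg.Agent.Lib.FischerUniq24

open Cfsg.Agent.Lib.CosetEnum (PTree force force_eq allBelow allBelow_iff allFrom allFrom_iff)
open Cfsg.Agent.Lib

theorem theta_part0 : allFrom 0 3000 (thetaAt) = true := by decide +kernel

theorem theta_part1 : allFrom 3000 3000 (thetaAt) = true := by decide +kernel

theorem theta_part2 : allFrom 6000 3000 (thetaAt) = true := by decide +kernel

theorem theta_part3 : allFrom 9000 3000 (thetaAt) = true := by decide +kernel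

theorem theta_part4 : allFrom 12000 3000 (thetaAt) = true := by decide +kernel

theorem theta_part5 : allFrom 15000 3000 (thetaAt) = true := by decide +kernel

theorem theta_part6 : allFrom 18000 3000 (thetaAt) = true := by decide +kernel

theorem theta_part7 : allFrom 21000 3000 (thetaAt) = true := by decide +kernel

theorem theta_part8 : allFrom 24000 3000 (thetaAt) = true := by decide +kernel

theorem theta_part9 : allFrom 27000 3000 (thetaAt) = true := by decide +kernel

theorem theta_part10 : allFrom 30000 1671 (thetaAt) = true := by decide +kernel

theorem theta_ok : allBelow 31671 (thetaAt) = true := by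
  refine allBelow_iff.2 fun i hi => ?_
  by_cases h : i < 3000
  · exact allFrom_iff.1 theta_part0 i (by omega) (by omega)
  by_cases h : i < 6000
  · exact allFrom_iff.1 theta_part1 i (by omega) (by omega)
  by_cases h : i < 9000
  · exact allFrom_iff.1 theta_part2 i (by omega) (by omega)
  by_cases h : i < 12000
  · exact allFrom_iff.1 theta_part3 i (by omega) (by omega)
  by_cases h : i < 15000
  · exact allFrom_iff.1 theta_part4 i (by omega) (by omega)
  by_cases h : i < 18000
  · exact allFrom_iff.1 theta_part5 i (by omega) (by omega)
  by_cases h : i < 21000
  · exact allFrom_iff.1 theta_part6 i (by omega) (by omega)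
  by_cases h : i < 24000
  · exact allFrom_iff.1 theta_part7 i (by omega) (by omega)
  by_cases h : i < 27000
  · exact allFrom_iff.1 theta_part8 i (by omega) (by omega)
  by_cases h : i < 30000
  · exact allFrom_iff.1 theta_part9 i (by omega) (by omega)
  exact allFrom_iff.1 theta_part10 i (by omega) (by omega)

end Cfsg.Agent.Lib.FischerUniq24
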