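import Cfsg.Agent.Lib.CosetEnum.Fi23Out.Facts
import Cfsg.Agent.Lib.Fi22Mult.Pres
import Cfsg.Agent.Lib.FischerUniq24.GammaChecks
import Cfsg.Agent.Lib.FischerUniq24.ThetaChecks

/-!
The presented Fi23 on its transpositions: letters as points, classes of some subgroups, and the projection
of a transposition centraliser onto the presented Fi22.
-/

set_option autoImplicit false
set_option maxRecDepth 20000
set_option linter.unusedSectionVars false

namespace Cfsg.Agent.Lib.FischerUniq24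

open Cfsg.Agent.Lib.CosetEnum (force force_eq allBelow allBelow_iff get32)
open Cfsg.Agent.Lib
open Cfsg.Agent.Lib.CosetEnum.Fi23Out (Setup val zz J sc twWord inO1)
open Cfsg.Agent.Lib.Fi22Mult (Node gen₂₂)

attribute [local irreducible] CosetEnum.Fi23x31671.table forA forB forK

/-- The presented Fi23. -/
abbrev G23 : Type := CosetEnum.Fi23Out.G

/-- Its points. -/
abbrev Pt : Type := Fin 31671

/-- A point given by a number. -/
def ofN (m : ℕ) : Pt := if h : m < 31671 then ⟨m, h⟩ else ⟨0, by omega⟩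

theorem ofN_val {m : ℕ} (h : m < 31671) : (ofN m).1 = m := by rw [ofN, dif_pos h]

theorem ofN_self (m : Pt) : ofN m.1 = m := by rw [ofN, dif_pos m.2]

/-- A number below the bound. -/
theorem lt_of_all {n : ℕ} {l : List ℕ} (h : (l.all fun x => Nat.blt x n) = true) : ∀ x ∈ l, x < n := fun x hx => by
  have := List.all_eq_true.1 h x hx
  rwa [Nat.blt_eq] at this

/-- The point of a letter. -/
def ndPt (g : ℕ) : Pt := ofN (nodeM.getD g 0)

/-- The letter of a node of Fi22. -/
def idx22 : Node → ℕ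
  | .a => 0 | .b => 1 | .c => 2 | .d => 3 | .e => 4 | .f => 5 | .g => 6 | .h => 8 | .i => 9

/-- The place of a node among the nine letters. -/
def pos22 : Node → ℕ
  | .a => 0 | .b => 1 | .c => 2 | .d => 3 | .e => 4 | .f => 5 | .g => 6 | .h => 7 | .i => 8

/-- The symmetry of the diagram. -/
def flip22 : Node → Node
  | .a => .g | .b => .f | .c => .e | .d => .d | .e => .c | .f => .b | .g => .a | .h => .h | .i => .i

theorem idx22_lt : ∀ y, idx22 y < 10 := fun y => by cases y <;> decide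

theorem flip_flip : ∀ y, flip22 (flip22 y) = y := fun y => by cases y <;> rfl

theorem label_flip : ∀ y z : Node, Cfsg.Spor.coxLabel Cfsg.Spor.Fi22.edges (flip22 y) (flip22 z) =
    Cfsg.Spor.coxLabel Cfsg.Spor.Fi22.edges y z := fun y z => by
  cases y <;> cases z <;> rfl

theorem gB_eq : ∀ g, g ∈ gB ↔ ∃ y, y ≠ (.a : Node) ∧ idx22 y = g := fun g => by
  constructor
  · intro h
    simp only [gB, List.mem_cons, List.not_mem_nil, or_false] at h
    rcases h with rfl | rfl | rfl | rfl | rfl | rfl | rfl | rfl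
    exacts [⟨.b, by decide, rfl⟩, ⟨.c, by decide, rfl⟩, ⟨.d, by decide, rfl⟩, ⟨.e, by decide, rfl⟩,
      ⟨.f, by decide, rfl⟩, ⟨.g, by decide, rfl⟩, ⟨.h, by decide, rfl⟩, ⟨.i, by decide, rfl⟩]
  · rintro ⟨y, hy, rfl⟩
    cases y <;> first | exact absurd rfl hy | decide

theorem gA_eq : ∀ g, g ∈ gA ↔ ∃ y, y ≠ (.g : Node) ∧ idx22 y = g := fun g => by
  constructor
  · intro h
    simp only [gA, List.mem_cons, List.not_mem_nil, or_false] at h
    rcases h with rfl | rfl | rfl | rfl | rfl | rfl | rfl | rfl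
    exacts [⟨.a, by decide, rfl⟩, ⟨.b, by decide, rfl⟩, ⟨.c, by decide, rfl⟩, ⟨.d, by decide, rfl⟩,
      ⟨.e, by decide, rfl⟩, ⟨.f, by decide, rfl⟩, ⟨.h, by decide, rfl⟩, ⟨.i, by decide, rfl⟩]
  · rintro ⟨y, hy, rfl⟩
    cases y <;> first | exact absurd rfl hy | decide

/-- The action from the right. -/
def mv (S : Setup) (x : G23) (i : Pt) : Pt := (S.ρ x)⁻¹ i

variable (S : Setup)

theorem mv_mul (x y : G23) (i : Pt) : mv S (x * y) i = mv S y (mv S x i) := by
  simp [mv, map_mul, mul_inv_rev]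

theorem mv_one (i : Pt) : mv S 1 i = i := by simp [mv]

theorem mv_inv (x : G23) (i : Pt) : mv S x⁻¹ (mv S x i) = i := by
  rw [← mv_mul, mul_inv_cancel, mv_one]

theorem mv_inv' (x : G23) (i : Pt) : mv S x (mv S x⁻¹ i) = i := by
  rw [← mv_mul, inv_mul_cancel, mv_one]

theorem mv_injective (x : G23) : Function.Injective (mv S x) := (S.ρ x)⁻¹.injective

theorem tp_mv (x : G23) (i : Pt) : x⁻¹ * S.tp i * x = S.tp (mv S x i) := by
  have h := S.tp_conj x⁻¹ i
  rw [inv_inv, map_inv] at h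
  exact h

theorem mv_val {w : List ℕ} (hw : ∀ g ∈ w, g < 10) (i : Pt) : (mv S (val w) i).1 = sc w i.1 := S.app hw i

theorem mv_letter {g : ℕ} (hg : g < 10) (i : Pt) : (mv S (val [g]) i).1 = step23 i.1 g := by
  rw [mv, CosetEnum.Fi23Out.val_singleton, S.hρ g hg]
  rfl

theorem step_lt {i g : ℕ} (hi : i < 31671) (hg : g < 10) : step23 i g < 31671 := by
  obtain ⟨S⟩ := CosetEnum.Fi23Out.exists_setup
  have h := mv_letter S hg ⟨i, hi⟩
  exact h ▸ (mv S (val [g]) ⟨i, hi⟩).2

theorem nodeM_lt : ∀ g < 10, nodeM.getD g 0 < 31671 := by decide +kernel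

theorem nodeL_pos : ∀ g < 10, ∃ k < 11, k ≠ 0 ∧ CosetEnum.Fi23Out.nodeL.getD k 0 = g ∧
    CosetEnum.Fi23Out.ptL.getD k 0 = nodeM.getD g 0 := by decide +kernel

/-- The transposition of the point of a letter is the letter. -/
theorem tp_node {g : ℕ} (hg : g < 10) : S.tp (ndPt g) = val [g] := by
  obtain ⟨k, hk, hk0, e, e'⟩ := nodeL_pos g hg
  have h := S.tp_pt k hk hk0
  rw [e] at h
  rw [← h]
  congr 1
  exact Fin.ext ((ofN_val (nodeM_lt g hg)).trans (e'.symm.trans (CosetEnum.Fi23Out.Setup.pt_val hk).symm))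

theorem comm_o_iff (m : Pt) : Commute zz (S.tp m) ↔ S.tp m ∈ J := by
  have hz : S.tp Setup.o = zz := S.tp_o
  rw [← hz, S.hst]
  constructor
  · exact fun h => (S.comm_iff m Setup.o).1 h.symm
  · exact fun h => ((S.comm_iff m Setup.o).2 h).symm

theorem mem_J_letter : ∀ g ∈ nine, val [g] ∈ J := by
  intro g hg
  have hg' : g ∈ CosetEnum.Fi23Orbit.emb := hg
  obtain ⟨i, hi, rfl⟩ := List.mem_iff_getElem.1 hg'
  refine Subgroup.subset_closure ⟨[CosetEnum.Fi23Orbit.emb[i]], List.mem_map.2 ⟨_, List.getElem_mem hi, rfl⟩, ?_⟩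
  rfl

theorem J_fix {x : G23} (hx : x ∈ J) : mv S x Setup.o = Setup.o := by
  rw [mv, Equiv.Perm.inv_eq_iff_eq]
  exact ((S.hst x).1 hx).symm

theorem mem_J_of_fix {x : G23} (hx : mv S x Setup.o = Setup.o) : x ∈ J := by
  rw [mv, Equiv.Perm.inv_eq_iff_eq] at hx
  exact (S.hst x).2 hx.symm

/-! ### Invariant predicates -/

/-- A predicate kept by some letters. -/
def Inv (gens : List ℕ) (P : Pt → Prop) : Prop := ∀ g ∈ gens, ∀ i : Pt, P (mv S (val [g]) i) ↔ P i

theorem inv_closure {gens : List ℕ} {P : Pt → Prop} (hP : Inv S gens P) {x : G23}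
    (hx : x ∈ Subgroup.closure {x | ∃ g ∈ gens, x = val [g]}) : ∀ i, P (mv S x i) ↔ P i := by
  induction hx using Subgroup.closure_induction with
  | mem a ha =>
    obtain ⟨g, hg, rfl⟩ := ha
    exact hP g hg
  | one => intro i; rw [mv_one]
  | mul a b _ _ iha ihb => intro i; rw [mv_mul, ihb, iha]
  | inv a _ iha =>
    intro i
    have h := iha (mv S a⁻¹ i)
    rw [mv_inv'] at h
    exact h.symm

theorem gFor_spec {F : CosetEnum.PTree} {gens roots : List ℕ} (hgens : ∀ g ∈ gens, g < 10)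
    (hok : allBelow 31671 (gFor F gens roots) = true) {P : Pt → Prop} (hP : Inv S gens P) (i : Pt) :
    gTree F i.1 < roots.length ∧ roots.getD (gTree F i.1) 31671 < 31671 ∧
      (P i ↔ P (ofN (roots.getD (gTree F i.1) 31671))) := by
  suffices h : ∀ d, ∀ i : Pt, gDepth F i.1 = d → gTree F i.1 < roots.length ∧
      roots.getD (gTree F i.1) 31671 < 31671 ∧ (P i ↔ P (ofN (roots.getD (gTree F i.1) 31671))) from h _ i rfl
  intro d
  induction d using Nat.strong_induction_on with
  | _ d ih =>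
    intro i hd
    have h := allBelow_iff.1 hok i.1 i.2
    simp only [gFor, force_eq, Bool.and_eq_true, Nat.blt_eq] at h
    obtain ⟨hr, hb⟩ := h
    change gTree F i.1 < roots.length at hr
    refine ⟨hr, ?_⟩
    change Bool.rec _ (Nat.beq i.1 (roots.getD (gTree F i.1) 31671)) (Nat.beq (gDepth F i.1) 0) = true at hb
    rw [hd] at hb
    rcases Nat.eq_zero_or_pos d with rfl | hpos
    · change Nat.beq i.1 (roots.getD (gTree F i.1) 31671) = true at hb
      rw [Nat.beq_eq] at hb
      rw [← hb, ofN_self]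
      exact ⟨i.2, Iff.rfl⟩
    · rw [show Nat.beq d 0 = false from by rw [← Bool.not_eq_true, Nat.beq_eq]; omega] at hb
      simp only [Bool.and_eq_true, Nat.blt_eq, Nat.beq_eq, List.any_eq_true] at hb
      obtain ⟨⟨⟨hp, g', hg', hgg⟩, hstep⟩, hroot, hdep⟩ := hb
      rw [← hgg] at hstep
      generalize hpdef : Nat.div (Nat.div (col30 F i.1) 2048) 16 = p at hp hstep hroot hdep
      change gTree F p = gTree F i.1 at hroot
      change gDepth F p < gDepth F i.1 at hdep
      rw [hd] at hdep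
      obtain ⟨-, h1, h2⟩ := ih _ hdep ⟨p, hp⟩ rfl
      rw [show (⟨p, hp⟩ : Pt).1 = p from rfl, hroot] at h1 h2
      refine ⟨h1, ?_⟩
      rw [← h2, ← hP g' hg' ⟨p, hp⟩]
      exact Iff.of_eq (congrArg P (Fin.ext ((mv_letter S (hgens g' hg') ⟨p, hp⟩).trans hstep).symm))

theorem countTree_eq (F : CosetEnum.PTree) (r : ℕ) :
    countTree F r = (Finset.univ.filter fun i : Pt => gTree F i.1 = r).card := by
  have key : ∀ n, (Nat.rec 0 (fun i ih => Bool.rec ih (Nat.succ ih) (Nat.beq (gTree F i) r)) n : ℕ) =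
      ((Finset.range n).filter fun i => gTree F i = r).card := by
    intro n
    induction n with
    | zero => rfl
    | succ n ih =>
      rw [Finset.range_add_one, Finset.filter_insert]
      change Bool.rec (motive := fun _ => ℕ) _ _ (Nat.beq (gTree F n) r) = _
      by_cases h : gTree F n = r
      · rw [if_pos h, show Nat.beq (gTree F n) r = true from Nat.beq_eq.mpr h,
          Finset.card_insert_of_notMem (by simp)]
        exact congrArg Nat.succ ih
      · rw [if_neg h, show Nat.beq (gTree F n) r = false from by rw [← Bool.not_eq_true, Nat.beq_eq]; exact h]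
        exact ih
  rw [countTree, key]
  refine (Finset.card_bij' (fun i _ => ofN i) (fun i _ => i.1) ?_ ?_ ?_ ?_)
  · intro i hi
    simp only [Finset.mem_filter, Finset.mem_range] at hi
    simp [ofN_val hi.1, hi.2]
  · intro i hi
    simp only [Finset.mem_filter, Finset.mem_univ, true_and] at hi
    simp [i.2, hi]
  · intro i hi
    simp only [Finset.mem_filter, Finset.mem_range] at hi
    exact ofN_val hi.1
  · intro i _
    exact ofN_self i

open Classical in
theorem ncard_classes {F : CosetEnum.PTree} {gens roots sizes : List ℕ} (hgens : ∀ g ∈ gens, g < 10)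
    (hok : allBelow 31671 (gFor F gens roots) = true)
    (hsz : ∀ r < roots.length, countTree F r = sizes.getD r 0) {P : Pt → Prop} (hP : Inv S gens P) :
    {i | P i}.ncard = ∑ r ∈ Finset.range roots.length,
      if P (ofN (roots.getD r 31671)) then sizes.getD r 0 else 0 := by
  classical
  rw [show {i | P i} = (↑(Finset.univ.filter P) : Set Pt) by ext; simp, Set.ncard_coe_finset,
    Finset.card_eq_sum_card_fiberwise (f := fun i : Pt => gTree F i.1) (t := Finset.range roots.length)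
      fun i _ => by simpa using (gFor_spec S hgens hok hP i).1]
  refine Finset.sum_congr rfl fun r hr => ?_
  rw [Finset.mem_range] at hr
  rw [Finset.filter_filter]
  by_cases h : P (ofN (roots.getD r 31671))
  · rw [if_pos h, ← hsz r hr, countTree_eq]
    refine congrArg Finset.card (Finset.filter_congr fun i _ => ⟨fun hi => hi.2, fun hi => ⟨?_, hi⟩⟩)
    have := (gFor_spec S hgens hok hP i).2.2
    rw [hi] at this
    exact this.2 h
  · rw [if_neg h, Finset.card_eq_zero, Finset.filter_eq_empty_iff]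
    rintro i - ⟨hi, hi'⟩
    have := (gFor_spec S hgens hok hP i).2.2
    rw [hi'] at this
    exact h (this.1 hi)

/-- No trace is kept by the first eight letters. -/
theorem no_traceA {P : Pt → Prop} (hP : Inv S gA P) (h0 : P Setup.o) (ha : P (ndPt 0)) :
    {i | P i}.ncard ≠ 3240 := by
  classical
  have hc := counts_ok
  simp only [Bool.and_eq_true, allBelow_iff, Nat.beq_eq] at hc
  obtain ⟨t0, ta, -⟩ := gamma_facts
  have e0 := (gFor_spec S (by decide) forA_ok hP Setup.o).2.2
  have ea := (gFor_spec S (by decide) forA_ok hP (ndPt 0)).2.2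
  rw [show gTree forA (Setup.o : Pt).1 = 0 from t0] at e0
  rw [show gTree forA (ndPt 0).1 = 1 from (congrArg (gTree forA) (ofN_val (nodeM_lt 0 (by norm_num)))).trans ta] at ea
  rw [ncard_classes S (by decide) forA_ok (sizes := nA) hc.1.1 hP, show rA.length = 8 from rfl]
  simp only [Finset.sum_range_succ, Finset.sum_range_zero, if_pos (e0.1 h0), if_pos (ea.1 ha)]
  simp only [nA, List.getD_cons_succ, List.getD_cons_zero]
  split_ifs <;> omega

/-- A trace kept by the second eight letters. -/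
theorem traceB {P : Pt → Prop} (hP : Inv S gB P) (h0 : P Setup.o) (hb : P (ndPt 1))
    (hn : {i | P i}.ncard = 3240) : P (ofN 1) ∧ P (ofN 23118) ∧ ¬ P (ndPt 0) ∧
      ∀ i, P i ↔ gTree forB i.1 < 4 := by
  classical
  have hc := counts_ok
  simp only [Bool.and_eq_true, allBelow_iff, Nat.beq_eq] at hc
  obtain ⟨-, -, t0, tb, ta, tt, -⟩ := gamma_facts
  have spec := gFor_spec S (gens := gB) (by decide) forB_ok hP
  have h0' : P (ofN 0) := h0
  have hb' : P (ofN 52) := by
    have h := (spec (ndPt 1)).2.2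
    rw [show gTree forB (ndPt 1).1 = 1 from (congrArg (gTree forB) (ofN_val (nodeM_lt 1 (by norm_num)))).trans tb] at h
    exact h.1 hb
  rw [ncard_classes S (by decide) forB_ok (sizes := nB) hc.1.2 hP, show rB.length = 6 from rfl] at hn
  simp only [Finset.sum_range_succ, Finset.sum_range_zero, rB, nB, List.getD_cons_succ, List.getD_cons_zero,
    if_pos h0', if_pos hb'] at hn
  have h4 : P (ofN 1) ∧ P (ofN 23118) ∧ ¬ P (ofN 11) ∧ ¬ P (ofN 91) := by
    split_ifs at hn <;> first | omega | (refine ⟨?_, ?_, ?_, ?_⟩ <;> assumption)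
  have hall : ∀ i, P i ↔ gTree forB i.1 < 4 := by
    intro i
    obtain ⟨hlt, -, h⟩ := spec i
    rw [h]
    generalize gTree forB i.1 = r at hlt h ⊢
    rw [show rB.length = 6 from rfl] at hlt
    interval_cases r
    · exact iff_of_true h0' (by norm_num)
    · exact iff_of_true hb' (by norm_num)
    · exact iff_of_true h4.1 (by norm_num)
    · exact iff_of_true h4.2.1 (by norm_num)
    · exact iff_of_false h4.2.2.1 (by norm_num)
    · exact iff_of_false h4.2.2.2 (by norm_num)
  refine ⟨h4.1, h4.2.1, fun h => ?_, hall⟩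
  have := (hall _).1 h
  rw [show gTree forB (ndPt 0).1 = 5 from (congrArg (gTree forB) (ofN_val (nodeM_lt 0 (by norm_num)))).trans ta] at this
  omega

/-- The base point is the only one fixed by the second eight letters. -/
theorem only_o {i : Pt} (h : ∀ g ∈ gB, mv S (val [g]) i = i) : i = Setup.o := by
  have hm := allBelow_iff.1 moved_ok i.1 i.2
  simp only [moved, Bool.or_eq_true, Nat.beq_eq, List.any_eq_true, Bool.not_eq_true'] at hm
  rcases hm with hm | ⟨g, hg, hne⟩
  · exact Fin.ext hm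
  · have e := congrArg Fin.val (h g hg)
    rw [mv_letter S ((show ∀ g ∈ gB, g < 10 by decide) g hg)] at e
    rw [← Bool.not_eq_true, Nat.beq_eq] at hne
    exact absurd e hne

/-- The central involution moves the point of `j`, which the first eight letters fix. -/
theorem j_facts : (∀ g ∈ gA, mv S (val [g]) (ndPt 7) = ndPt 7) ∧ mv S zz (ndPt 7) ≠ ndPt 7 := by
  obtain ⟨-, -, -, -, -, -, -, -, -, hj, hin⟩ := gamma_facts
  have e : (ndPt 7).1 = 8006 := ofN_val (by decide)
  refine ⟨fun g hg => Fin.ext ?_, fun h => ?_⟩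
  · rw [mv_letter S ((show ∀ g ∈ gA, g < 10 by decide) g hg), e, hj g hg]
  · rw [mv, Equiv.Perm.inv_eq_iff_eq] at h
    have := (S.zz_fix_iff (ndPt 7)).1 h.symm
    rw [e, hin] at this
    exact Bool.noConfusion this

/-- 2.Fi22 has three orbits. -/
theorem nine_classes {P : Pt → Prop} (hP : Inv S nine P) (h0 : P Setup.o) (ha : P (ndPt 0))
    (hj : P (ndPt 7)) : ∀ i, P i := by
  have hJ : ∀ x ∈ J, ∀ i, P (mv S x i) ↔ P i := fun x hx => inv_closure S hP (by
    refine (Subgroup.closure_le _).2 ?_ hx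
    rintro _ ⟨l, hl, rfl⟩
    obtain ⟨g, hg, rfl⟩ := List.mem_map.1 hl
    exact Subgroup.subset_closure ⟨g, hg, rfl⟩)
  have hJ' : ∀ x ∈ J, ∀ i, P (S.ρ x i) ↔ P i := fun x hx i => by
    have h := hJ x hx (S.ρ x i)
    rw [show mv S x (S.ρ x i) = i by simp [mv]] at h
    exact h.symm
  have h2spec := CosetEnum.Fi23x31671.orb2_spec S.ρ S.hρ
  have h52 : P ⟨52, by omega⟩ := by
    have hfix : inO1 (ndPt 0).1 = false := by
      rw [ndPt, ofN_val (nodeM_lt 0 (by norm_num))]
      decide +kernel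
    have hc := allBelow_iff.1 Cfsg.Agent.S1697.cover (ndPt 0).1 (ndPt 0).2
    simp only [CosetEnum.coverAt, force_eq, Bool.or_eq_true, Bool.and_eq_true, Bool.false_eq_true, or_false,
      Nat.beq_eq, Nat.blt_eq] at hc
    rcases hc with h | ⟨hp, hq⟩ | ⟨hp, hq⟩
    · rw [ndPt, ofN_val (nodeM_lt 0 (by norm_num))] at h
      exact absurd h (by decide)
    · have hb : Nat.blt (get32 CosetEnum.Fi23x31671.orbPos1 (ndPt 0).1) 28160 = true := by
        rw [Nat.blt_eq]; exact hp
      simp [inO1, hb, hq] at hfix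
    · obtain ⟨x, hx, hxe⟩ := h2spec.2.2 _ hp (ndPt 0) hq.symm
      rw [← hxe, hJ' x hx] at ha
      exact ha
  have h1 : P ⟨1, by omega⟩ := by
    obtain ⟨x, hx, hxe⟩ := S.inO1_mem (i := ndPt 7) (by
      rw [ndPt, ofN_val (nodeM_lt 7 (by norm_num))]
      exact gamma_facts.2.2.2.2.2.2.2.2.2.2)
    rw [← hxe, hJ' x hx] at hj
    exact hj
  intro i
  have hc := allBelow_iff.1 Cfsg.Agent.S1697.cover i.1 i.2
  simp only [CosetEnum.coverAt, force_eq, Bool.or_eq_true, Bool.and_eq_true, Bool.false_eq_true, or_false,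
    Nat.beq_eq, Nat.blt_eq] at hc
  rcases hc with h | ⟨hp, hq⟩ | ⟨hp, hq⟩
  · rw [show i = Setup.o from Fin.ext h]; exact h0
  · obtain ⟨x, hx, hxe⟩ := (CosetEnum.Fi23x31671.orb1_spec S.ρ S.hρ).2.2 _ hp i hq.symm
    rw [← hxe, hJ' x hx]; exact h1
  · obtain ⟨x, hx, hxe⟩ := h2spec.2.2 _ hp i hq.symm
    rw [← hxe, hJ' x hx]; exact h52

/-! ### The projection onto Fi22 -/

/-- The number of points fixed by an element. -/
theorem countFix_eq {w : List ℕ} (hw : ∀ g ∈ w, g < 10) :
    countFix w = {i : Pt | mv S (val w) i = i}.ncard := by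
  classical
  have key : ∀ n, (Nat.rec 0 (fun i ih => Bool.rec ih (Nat.succ ih) (Nat.beq (sc w i) i)) n : ℕ) =
      ((Finset.range n).filter fun i => sc w i = i).card := by
    intro n
    induction n with
    | zero => rfl
    | succ n ih =>
      rw [Finset.range_add_one, Finset.filter_insert]
      change Bool.rec (motive := fun _ => ℕ) _ _ (Nat.beq (sc w n) n) = _
      by_cases h : sc w n = n
      · rw [if_pos h, show Nat.beq (sc w n) n = true from Nat.beq_eq.mpr h,
          Finset.card_insert_of_notMem (by simp)]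
        exact congrArg Nat.succ ih
      · rw [if_neg h, show Nat.beq (sc w n) n = false from by rw [← Bool.not_eq_true, Nat.beq_eq]; exact h]
        exact ih
  rw [countFix, key, show {i : Pt | mv S (val w) i = i} =
    ↑(Finset.univ.filter fun i : Pt => mv S (val w) i = i) by ext; simp, Set.ncard_coe_finset]
  refine (Finset.card_bij' (fun i _ => ofN i) (fun i _ => i.1) ?_ ?_ ?_ ?_)
  · intro i hi
    simp only [Finset.mem_filter, Finset.mem_range] at hi
    simp only [Finset.mem_filter, Finset.mem_univ, true_and]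
    exact Fin.ext (by rw [mv_val S hw, ofN_val hi.1, hi.2])
  · intro i hi
    simp only [Finset.mem_filter, Finset.mem_univ, true_and] at hi
    simp only [Finset.mem_filter, Finset.mem_range]
    exact ⟨i.2, by rw [← mv_val S hw, hi]⟩
  · intro i hi
    simp only [Finset.mem_filter, Finset.mem_range] at hi
    exact ofN_val hi.1
  · intro i _
    exact ofN_self i

theorem ncard_fix_conj (x y : G23) :
    {i : Pt | mv S (x⁻¹ * y * x) i = i}.ncard = {i : Pt | mv S y i = i}.ncard := by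
  rw [← Set.ncard_image_of_injective {i : Pt | mv S y i = i} (mv_injective S x)]
  congr 1
  ext i
  constructor
  · intro h
    refine ⟨mv S x⁻¹ i, ?_, mv_inv' S x i⟩
    show mv S y (mv S x⁻¹ i) = mv S x⁻¹ i
    apply mv_injective S x
    rw [← mv_mul, ← mv_mul, ← mul_assoc, mv_inv']
    exact h
  · rintro ⟨j, hj, rfl⟩
    show mv S (x⁻¹ * y * x) (mv S x j) = mv S x j
    rw [mv_mul, mv_mul, mv_inv, show mv S y j = j from hj]

/-- The transpositions of two points commuting with the base do not differ by the central one. -/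
theorem apart {m m' : Pt} (hm' : Commute zz (S.tp m')) : S.tp m ≠ S.tp m' * zz := by
  classical
  intro he
  have hJ := (comm_o_iff S m').1 hm'
  have hfix : mv S zz m' = m' := by
    refine S.tp_inj ?_
    rw [← tp_mv, mul_assoc, ← hm'.eq, inv_mul_cancel_left]
  rw [mv, Equiv.Perm.inv_eq_iff_eq] at hfix
  have hin := (S.zz_fix_iff m').1 hfix.symm
  have hc := allBelow_iff.1 Cfsg.Agent.S1697.cover m'.1 m'.2
  simp only [CosetEnum.coverAt, force_eq, Bool.or_eq_true, Bool.and_eq_true, Bool.false_eq_true, or_false,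
    Nat.beq_eq, Nat.blt_eq] at hc
  rcases hc with h | ⟨hp, hq⟩ | ⟨hp, hq⟩
  · rw [show m' = Setup.o from Fin.ext h, S.tp_o, S.zz_sq] at he
    have e := S.tr_spec m
    have : zz = 1 := by
      have h2 : S.tr m * zz * (S.tr m)⁻¹ = 1 := by
        rw [show S.tr m * zz * (S.tr m)⁻¹ = S.tp m from rfl, he]
      exact conj_eq_one_iff.1 h2
    exact S.zz_ne this
  · have hb : Nat.blt (get32 CosetEnum.Fi23x31671.orbPos1 m'.1) 28160 = true := by rw [Nat.blt_eq]; exact hp
    simp [inO1, hb, hq] at hin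
  obtain ⟨a, ha, hae⟩ := (CosetEnum.Fi23x31671.orb2_spec S.ρ S.hρ).2.2 _ hp m' hq.symm
  have hb52 : ∃ c ∈ J, mv S c (ndPt 1) = m' := by
    have hfixb : inO1 (ndPt 1).1 = false := by
      rw [ndPt, ofN_val (nodeM_lt 1 (by norm_num))]
      decide +kernel
    have hc := allBelow_iff.1 Cfsg.Agent.S1697.cover (ndPt 1).1 (ndPt 1).2
    simp only [CosetEnum.coverAt, force_eq, Bool.or_eq_true, Bool.and_eq_true, Bool.false_eq_true, or_false,
      Nat.beq_eq, Nat.blt_eq] at hc
    rcases hc with h | ⟨hp', hq'⟩ | ⟨hp', hq'⟩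
    · rw [ndPt, ofN_val (nodeM_lt 1 (by norm_num))] at h
      exact absurd h (by decide)
    · have hb : Nat.blt (get32 CosetEnum.Fi23x31671.orbPos1 (ndPt 1).1) 28160 = true := by
        rw [Nat.blt_eq]; exact hp'
      simp [inO1, hb, hq'] at hfixb
    · obtain ⟨b, hb, hbe⟩ := (CosetEnum.Fi23x31671.orb2_spec S.ρ S.hρ).2.2 _ hp' (ndPt 1) hq'.symm
      refine ⟨b * a⁻¹, mul_mem hb (inv_mem ha), ?_⟩
      rw [mv_mul, show mv S b (ndPt 1) = ⟨52, by omega⟩ by rw [← hbe]; simp [mv],
        show mv S a⁻¹ ⟨52, by omega⟩ = m' by rw [← hae]; simp [mv]]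
  obtain ⟨c, hc, hce⟩ := hb52
  have hzw : zz = val CosetEnum.Fi23Orbit.zWord := rfl
  have hprod : c * S.tp m * c⁻¹ = val ([1] ++ CosetEnum.Fi23Orbit.zWord) := by
    rw [CosetEnum.Fi23Out.val_append, ← hzw, ← tp_node S (show 1 < 10 by norm_num), he, ← hce, ← tp_mv]
    calc c * (c⁻¹ * S.tp (ndPt 1) * c * zz) * c⁻¹ = S.tp (ndPt 1) * (c * zz) * c⁻¹ := by group
      _ = S.tp (ndPt 1) * zz := by rw [S.central c hc]; group
  have h1 : {i : Pt | mv S (c * S.tp m * c⁻¹) i = i}.ncard = 695 := by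
    rw [hprod, ← countFix_eq S (fun g hg => by
      rcases List.mem_append.1 hg with h | h
      · rw [List.mem_singleton] at h; omega
      · exact Setup.zWord_lt g h)]
    exact fix_counts.2
  have h2 : {i : Pt | mv S (S.tp m) i = i}.ncard = 3511 := by
    rw [← ncard_fix_conj S (S.tr m) (S.tp m), tp_mv, show mv S (S.tr m) m = Setup.o by
      rw [mv, Equiv.Perm.inv_eq_iff_eq]; exact (S.tr_spec m).symm, S.tp_o, hzw, ← countFix_eq S Setup.zWord_lt]
    exact fix_counts.1
  have h3 := ncard_fix_conj S c⁻¹ (S.tp m)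
  rw [inv_inv] at h3
  omega

include S in
theorem exists_proj : ∃ π : J →* Cfsg.Spor.Fi22, Function.Surjective π ∧
    (∀ x : J, π x = 1 ↔ (x : G23) = 1 ∨ (x : G23) = zz) ∧
    ∀ y : Node, ∀ h : val [idx22 y] ∈ J, π ⟨_, h⟩ = gen₂₂ y := by
  classical
  obtain ⟨ρJ, hρJ, hker⟩ := CosetEnum.exists_restrict S.ρ S.hρ CosetEnum.Fi23Orbit.emb (by decide +kernel) _ _ _
    CosetEnum.Fi23Orbit.restrict_ok
  obtain ⟨ψ, hψ⟩ := CosetEnum.exists_tableHom CosetEnum.Fi22x3510.letters
    (Cfsg.Spor.coxRelators Cfsg.Spor.Fi22.edges ∪ {r | r ∈ Cfsg.Spor.Fi22.extra})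
    (CosetEnum.sameRels_cox CosetEnum.Fi22x3510.letters [Cfsg.Spor.Fi22.Gen.a, Cfsg.Spor.Fi22.Gen.b,
      Cfsg.Spor.Fi22.Gen.c, Cfsg.Spor.Fi22.Gen.d, Cfsg.Spor.Fi22.Gen.e, Cfsg.Spor.Fi22.Gen.f,
      Cfsg.Spor.Fi22.Gen.g, Cfsg.Spor.Fi22.Gen.h, Cfsg.Spor.Fi22.Gen.i] _ _ rfl (by decide +kernel))
    CosetEnum.Fi22x3510.letters_ok CosetEnum.Fi23Orbit.table_ok
  have hlen : CosetEnum.Fi23Orbit.emb.length = CosetEnum.Fi22x3510.letters.K := by decide +kernel
  have hgen : ∀ g, ∀ hg : g < CosetEnum.Fi23Orbit.emb.length,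
      ψ (CosetEnum.Fi22x3510.letters.phi _ g) = ρJ (CosetEnum.Fi23Orbit.gen g hg) := by
    intro g hg
    refine inv_injective (Equiv.ext fun m => Fin.ext ?_)
    have h1 := hψ g (by omega) m
    rw [← hlen] at h1
    exact h1.trans (hρJ g hg m).symm
  have hrange : ρJ.range ≤ ψ.range := by
    rw [MonoidHom.range_eq_map, ← CosetEnum.Fi23Orbit.gen_closure, MonoidHom.map_closure, Subgroup.closure_le]
    rintro _ ⟨_, ⟨g, hg, rfl⟩, rfl⟩
    exact ⟨_, hgen g hg⟩
  obtain ⟨hsimple, hord⟩ := Cfsg.Agent.S1696.result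
  have hz1 : zz ≠ 1 := S.zz_ne
  have hzJ : zz ∈ J := Setup.zz_mem
  have hkerρ : ∀ x : J, ρJ x = 1 → (x : G23) = 1 ∨ (x : G23) = zz := by
    intro x hx
    refine S.kerJ x.1 x.2 fun m hm i hi => (hker x).1 hx i ?_
    have h := allBelow_iff.1 CosetEnum.Fi23Orbit.restrict_ok m hm
    simp only [CosetEnum.restrictAt, force_eq, Bool.and_eq_true, Nat.beq_eq, Nat.blt_eq] at h
    rw [hi]
    obtain ⟨⟨h1, h2⟩, h3⟩ := h
    first
      | exact ⟨by rw [h2], by rw [h2]; exact hm⟩
      | exact ⟨by rw [h1], by rw [h1]; exact hm⟩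
  have hzker : ρJ ⟨zz, hzJ⟩ = 1 := (hker _).2 fun i hi => S.zz_fix2 _ hi.2 i hi.1
  have hψinj : Function.Injective ψ := by
    haveI := hsimple
    rw [← MonoidHom.ker_eq_bot_iff]
    rcases (MonoidHom.normal_ker ψ).eq_bot_or_eq_top with h | h
    · exact h
    · exfalso
      have hg0 : val [0] ∈ J := mem_J_letter 0 (by decide)
      have h0 : ρJ ⟨val [0], hg0⟩ = 1 := by
        obtain ⟨v, hv⟩ := hrange ⟨⟨val [0], hg0⟩, rfl⟩
        rw [← hv]
        exact MonoidHom.mem_ker.1 (h ▸ Subgroup.mem_top v)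
      rcases hkerρ _ h0 with e | e
      · have h1 := congrArg (fun x : G23 => (mv S x ⟨8004, by omega⟩).1) e
        simp only [mv_letter S (show 0 < 10 by norm_num), mv_one] at h1
        exact absurd h1 (by decide +kernel)
      · have e' : S.tp (ndPt 0) = S.tp Setup.o := by rw [tp_node S (by norm_num), S.tp_o]; exact e
        have h1 := congrArg Fin.val (S.tp_inj e')
        rw [ndPt, ofN_val (nodeM_lt 0 (by norm_num))] at h1
        exact absurd h1 (by decide)
  have hback : ψ.range ≤ ρJ.range := by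
    rw [MonoidHom.range_eq_map, ← CosetEnum.Letters.gen_closure (L := CosetEnum.Fi22x3510.letters)
      CosetEnum.Fi22x3510.table_ok.col, MonoidHom.map_closure, Subgroup.closure_le]
    rintro _ ⟨_, ⟨g, hg, rfl⟩, rfl⟩
    exact ⟨_, (hgen g (by omega)).symm⟩
  let e := MonoidHom.ofInjective hψinj
  let π : J →* Cfsg.Spor.Fi22 := e.symm.toMonoidHom.comp (ρJ.codRestrict ψ.range fun x => hrange ⟨x, rfl⟩)
  have hπ : ∀ (x : J) (v : Cfsg.Spor.Fi22), ψ v = ρJ x → π x = v := by
    intro x v h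
    apply e.injective
    show e (e.symm _) = e v
    rw [e.apply_symm_apply]
    exact Subtype.ext h.symm
  refine ⟨π, fun v => ?_, fun x => ⟨fun hx => hkerρ x ?_, ?_⟩, fun y h => hπ _ _ ?_⟩
  · obtain ⟨x, hx⟩ := hback ⟨v, rfl⟩
    exact ⟨x, hπ x v hx.symm⟩
  · obtain ⟨v, hv⟩ := hrange ⟨x, rfl⟩
    rw [hπ x v hv] at hx
    rw [← hv, hx, map_one]
  · rintro (hx | hx)
    · rw [show x = 1 from Subtype.ext hx, map_one]
    · exact hπ x 1 (by rw [map_one, show x = ⟨zz, hzJ⟩ from Subtype.ext hx, hzker])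
  · obtain ⟨g, hg, e1, e2⟩ : ∃ g, ∃ hg : g < CosetEnum.Fi23Orbit.emb.length,
        gen₂₂ y = CosetEnum.Fi22x3510.letters.phi _ g ∧
        CosetEnum.Fi23Orbit.gen g hg = (⟨val [idx22 y], h⟩ : J) := by
      refine ⟨pos22 y, by cases y <;> decide, ?_, Subtype.ext ?_⟩
      · rw [CosetEnum.Letters.phi_of_lt (show pos22 y < CosetEnum.Fi22x3510.letters.K by cases y <;> decide)]
        cases y <;> rfl
      · show CosetEnum.Fi23x31671.letters.phi _ (CosetEnum.Fi23Orbit.emb.getD (pos22 y) 0) = val [idx22 y]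
        rw [CosetEnum.Fi23Out.val_singleton, (show ∀ y, CosetEnum.Fi23Orbit.emb.getD (pos22 y) 0 = idx22 y from
          fun y => by cases y <;> rfl) y]
    rw [e1, hgen g hg, e2]

end Cfsg.Agent.Lib.FischerUniq24
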