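import Cfsg.Agent.Lib.FischerUniq91.Eight.Main
import Cfsg.Agent.Lib.FischerMTypes.ParityM24
import Cfsg.Agent.Lib.FischerMTypes.M24Data
import Cfsg.Agent.Lib.FischerUniq24.Gamma

/-!
The interface on the group side: every transposition has a frame, an action of the presented Fi23 on its
perp set modelled on the 31671 points, and a non-commuting pair has 3240 common neighbours.
-/

set_option autoImplicit false
set_option maxRecDepth 20000
set_option linter.style.haveILetI false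
set_option linter.unusedSectionVars false

namespace Cfsg.Agent.Lib.FischerUniq24

open Cfsg.Agent.Lib
open Cfsg.Agent.Lib.CosetEnum.Fi23Out (Setup val zz J)
open Cfsg.Agent.Lib.FischerMTypes.Basic Cfsg.Agent.Lib.FischerMTypes.Primitive Cfsg.Agent.Lib.FischerMTypes.Levels

variable {G : Type*} [Group G]

/-- A model of the perp set of `d`. -/
structure Frame (S : Setup) (D : Set G) (d : G) where
  /-- the group -/
  hom : G23 →* G
  /-- the points -/
  pt : Pt → G
  pt_mem : ∀ m, pt m ∈ perp D d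
  pt_surj : ∀ y ∈ perp D d, ∃ m, pt m = y
  pt_inj : Function.Injective pt
  hom_comm : ∀ x, Commute d (hom x)
  hom_tp : ∀ m, hom (S.tp m) = pt m * d
  eqv : ∀ x m, (hom x)⁻¹ * pt m * hom x = pt (mv S x m)

/-- What the proof uses of the group. -/
structure Model (S : Setup) (D : Set G) where
  conj : ∀ (g : G), ∀ a ∈ D, g * a * g⁻¹ ∈ D
  sq : ∀ a ∈ D, a * a = 1
  ne : ∀ a ∈ D, a ≠ 1
  gen : Subgroup.closure D = ⊤
  hcl : ∀ a ∈ D, ∀ b ∈ D, ∃ g : G, g * a * g⁻¹ = b
  prim : ∀ B : Set G, B ⊆ D → (∀ g : G, (fun x => g * x * g⁻¹) '' B = B ∨ Disjoint ((fun x => g * x * g⁻¹) '' B) B) →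
    B.Subsingleton ∨ B = D
  hZ : Subgroup.center G = ⊥
  nonempty : D.Nonempty
  frame : ∀ a ∈ D, Frame S D a
  trace : ∀ a ∈ D, ∀ x ∈ D, ¬ Commute a x → (perp₂ D a x).Nonempty → (perp₂ D a x).ncard = 3240

namespace Frame

variable {S : Setup} {D : Set G} {d : G} (F : Frame S D d)

theorem pt_D (m : Pt) : F.pt m ∈ D := (F.pt_mem m).1

theorem comm_pt (m : Pt) : Commute d (F.pt m) := (F.pt_mem m).2.2

theorem pt_eq (hd : d * d = 1) (m : Pt) : F.pt m = F.hom (S.tp m) * d := by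
  rw [F.hom_tp, mul_assoc, hd, mul_one]

include F in
theorem hom_injective (hd : d * d = 1) : Function.Injective F.hom := by
  haveI := Cfsg.Agent.S1697.result.1
  rw [← MonoidHom.ker_eq_bot_iff]
  rcases (MonoidHom.normal_ker F.hom).eq_bot_or_eq_top with h | h
  · exact h
  · exfalso
    have e : F.hom (S.tp Setup.o) = 1 := MonoidHom.mem_ker.1 (h ▸ Subgroup.mem_top _)
    rw [F.hom_tp] at e
    exact (F.pt_mem Setup.o).2.1 ((eq_inv_of_mul_eq_one_left e).trans (inv_eq_of_mul_eq_one_right hd))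

include F in
/-- the transposition is not in the image -/
theorem hom_ne (hd : d * d = 1) (hd1 : d ≠ 1) (x : G23) : F.hom x ≠ d := by
  intro h
  have hx : x = 1 := S.inj (Equiv.ext fun i => by
    have e := F.eqv x i
    rw [h, mul_assoc, ← (F.comm_pt i).eq, inv_mul_cancel_left] at e
    rw [map_one, Equiv.Perm.one_apply]
    exact (Equiv.Perm.inv_eq_iff_eq.1 (F.pt_inj e).symm).symm)
  exact hd1 (by rw [← h, hx, map_one])

theorem commute_iff (hd : d * d = 1) (m m' : Pt) :
    Commute (F.pt m) (F.pt m') ↔ Commute (S.tp m) (S.tp m') := by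
  constructor
  · intro h
    refine F.hom_injective hd ?_
    rw [map_mul, map_mul]
    have h1 : Commute (F.pt m * d) (F.pt m' * d) :=
      (h.mul_right (F.comm_pt m).symm).mul_left ((F.comm_pt m').mul_right (Commute.refl d))
    rw [F.hom_tp, F.hom_tp]
    exact h1.eq
  · intro h
    rw [F.pt_eq hd, F.pt_eq hd]
    exact ((h.map F.hom).mul_right (F.hom_comm _).symm).mul_left ((F.hom_comm _).mul_right (Commute.refl d))

/-- moving the base -/
noncomputable def twist (x : G23) : Frame S D d where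
  hom := F.hom.comp (MulAut.conj x).toMonoidHom
  pt m := F.pt (mv S x⁻¹ m)
  pt_mem m := F.pt_mem _
  pt_surj y hy := by
    obtain ⟨m, rfl⟩ := F.pt_surj y hy
    exact ⟨mv S x m, congrArg F.pt (mv_inv S x m)⟩
  pt_inj := F.pt_inj.comp (mv_injective S x⁻¹)
  hom_comm y := F.hom_comm _
  hom_tp m := by
    show F.hom (x * S.tp m * x⁻¹) = _
    rw [← F.hom_tp, ← tp_mv, inv_inv]
  eqv y m := by
    show (F.hom (x * y * x⁻¹))⁻¹ * F.pt (mv S x⁻¹ m) * F.hom (x * y * x⁻¹) = _
    rw [F.eqv, ← mv_mul, show x⁻¹ * (x * y * x⁻¹) = y * x⁻¹ by group, mv_mul]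

theorem twist_pt (x : G23) (m : Pt) : (F.twist x).pt m = F.pt (mv S x⁻¹ m) := rfl

end Frame

/-! ### Frames of a group of type M(24) -/

section

open Cfsg.Agent.Lib.FischerMTypes.Step
open Cfsg.Agent.Lib.FischerMTypes.TraceCounts (Sys)

universe u

variable {H : Type u} [Group H] [Finite H] {D : Set H}

theorem exists_sign (hD : Cfsg.IsThreeTranspositionGroup D) (hcl : ∀ a ∈ D, ∀ b ∈ D, ∃ g : H, g * a * g⁻¹ = b)
    {a : H} (ha : a ∈ D) (hpar : a ∉ commutator H) :
    ∃ χ : H →* Abelianization H, (∀ y ∈ D, χ y = χ a) ∧ χ a ≠ 1 ∧ χ a * χ a = 1 ∧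
      ∀ g, χ g = 1 ∨ χ g = χ a := by
  refine ⟨Abelianization.of, fun y hy => ?_, fun h => hpar ((QuotientGroup.eq_one_iff a).1 h), ?_, fun g => ?_⟩
  · obtain ⟨g, rfl⟩ := hcl a ha y hy
    rw [map_mul, map_mul, map_inv, mul_comm (Abelianization.of g), mul_inv_cancel_right]
  · rw [← map_mul, mul_self hD.1 ha, map_one]
  · have hg : g ∈ Subgroup.closure D := hD.2.2 ▸ Subgroup.mem_top g
    have h2 : Abelianization.of a * Abelianization.of a = 1 := by rw [← map_mul, mul_self hD.1 ha, map_one]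
    induction hg using Subgroup.closure_induction with
    | mem y hy =>
      right
      obtain ⟨t, rfl⟩ := hcl a ha y hy
      rw [map_mul, map_mul, map_inv, mul_comm (Abelianization.of t), mul_inv_cancel_right]
    | one => exact Or.inl (map_one _)
    | mul p q _ _ hp hq =>
      rw [map_mul]
      rcases hp with hp | hp <;> rcases hq with hq | hq <;> rw [hp, hq] <;> simp [h2]
    | inv p _ hp =>
      rw [map_inv]
      rcases hp with hp | hp <;> rw [hp]
      · exact Or.inl inv_one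
      · exact Or.inr (inv_eq_of_mul_eq_one_right h2)

variable {Q : Type u} [Group Q] [Finite Q] {E : Set Q} (S : Setup)

theorem exists_frame (T : StepData D E 31671 3510 693 351 4585351680) (P : Pinned D 31671 3510 693 351 3240)
    (hpar : ∀ a ∈ D, a ∉ commutator H) (e : G23 ≃* Q) (he : ∀ g < 10, e (val [g]) ∈ E)
    (hE : Cfsg.IsThreeTranspositionGroup E) (hEcl : ∀ p ∈ E, ∀ q ∈ E, ∃ g : Q, g * p * g⁻¹ = q)
    {d : H} (hd : d ∈ D) : Nonempty (Frame S D d) := by
  classical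
  obtain ⟨χ, hχD, hχ1, hχ2, hχ⟩ := exists_sign T.hD T.hcl hd (hpar d hd)
  have hself := P.self d hd
  have hdd := mul_self T.hD.1 hd
  have hclo : ∀ z ∈ Subgroup.closure (perp D d), Commute d z :=
    fun z hz => commute_closure (fun s hs => hs.2.2) z hz
  have hfd : T.f hd d = 1 := by
    rw [← T.f_one hd]
    exact (T.f_eq_iff hd hself (one_mem _)).2 fun y hy => by
      rw [mul_one]; exact hy.2.2.symm.inv_right
  have huniq : ∀ u v : H, u ∈ Subgroup.closure (perp D d) → v ∈ Subgroup.closure (perp D d) →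
      χ u = χ v → T.f hd u = T.f hd v → u = v := by
    intro u v hu hv hs hf
    have h := T.center_perp P.small hd (mul_mem (inv_mem hu) hv)
      fun y hy => (T.f_eq_iff hd hu hv).1 hf y hy
    rcases h with h | h
    · exact inv_mul_eq_one.1 h
    · exfalso
      have := congrArg χ h
      rw [map_mul, map_inv, hs, inv_mul_cancel] at this
      exact hχ1 this.symm
  have hex : ∀ q : Q, ∃ h, h ∈ Subgroup.closure (perp D d) ∧ χ h = 1 ∧ T.f hd h = q := by
    intro q
    obtain ⟨h, hh, hq⟩ := T.exists_f_closure hd q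
    rcases hχ h with h1 | h1
    · exact ⟨h, hh, h1, hq⟩
    · exact ⟨h * d, mul_mem hh hself, by rw [map_mul, h1, hχ2],
        by rw [T.f_mul hd hh hself, hfd, mul_one, hq]⟩
  choose lift hl1 hl2 hl3 using hex
  let hom : G23 →* H := MonoidHom.mk' (fun x => lift (e x)) fun x y => huniq _ _ (hl1 _)
    (mul_mem (hl1 _) (hl1 _)) (by rw [map_mul χ, hl2, hl2, hl2, one_mul])
    (by rw [T.f_mul hd (hl1 _) (hl1 _), hl3, hl3, hl3, map_mul])
  have hconjE : ∀ (g : Q), ∀ q ∈ E, g * q * g⁻¹ ∈ E := hE.2.1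
  have hz : e zz ∈ E := by
    have h := tp_node S (show 1 < 10 by norm_num)
    have hb := he 1 (by norm_num)
    rw [← h] at hb
    have e1 : zz = (S.tr (ndPt 1))⁻¹ * S.tp (ndPt 1) * S.tr (ndPt 1) := by
      rw [show S.tp (ndPt 1) = S.tr (ndPt 1) * zz * (S.tr (ndPt 1))⁻¹ from rfl]; group
    rw [e1, map_mul, map_mul, map_inv]
    have := hconjE (e (S.tr (ndPt 1)))⁻¹ _ hb
    rwa [inv_inv] at this
  have htpE : ∀ m, e (S.tp m) ∈ E := fun m => by
    rw [show S.tp m = S.tr m * zz * (S.tr m)⁻¹ from rfl, map_mul, map_mul, map_inv]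
    exact hconjE _ _ hz
  have htpsurj : ∀ q ∈ E, ∃ m, e (S.tp m) = q := fun q hq => by
    obtain ⟨g, hg⟩ := hEcl _ (htpE Setup.o) q hq
    obtain ⟨x, rfl⟩ := e.surjective g
    refine ⟨mv S x⁻¹ Setup.o, ?_⟩
    rw [← tp_mv, inv_inv, map_mul, map_mul, map_inv, hg]
  have hpt : ∀ m, ∃ y ∈ perp D d, T.f hd y = e (S.tp m) := fun m => T.exists_f hd (htpE m)
  choose pt hpt1 hpt2 using hpt
  have hclp : ∀ m, pt m ∈ Subgroup.closure (perp D d) := fun m => Subgroup.subset_closure (hpt1 m)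
  refine ⟨⟨hom, pt, hpt1, fun y hy => ?_, fun m m' h => ?_, fun x => hclo _ (hl1 _), fun m => ?_, fun x m => ?_⟩⟩
  · obtain ⟨m, hm⟩ := htpsurj _ (T.f_mem hd hy)
    exact ⟨m, T.f_inj hd (hpt1 m) hy ((hpt2 m).trans hm)⟩
  · exact S.tp_inj (e.injective ((hpt2 m).symm.trans ((congrArg (T.f hd) h).trans (hpt2 m'))))
  · refine huniq _ _ (hl1 _) (mul_mem (hclp m) hself) ?_ ?_
    · show χ (lift _) = _
      rw [hl2, map_mul, hχD _ (hpt1 m).1, hχ2]
    · show T.f hd (lift _) = _
      rw [hl3, T.f_mul hd (hclp m) hself, hfd, mul_one, hpt2]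
  · have hh := hl1 (e x)
    have hmem : (hom x)⁻¹ * pt m * hom x ∈ perp D d := by
      have hf : (hom x)⁻¹ * d * ((hom x)⁻¹)⁻¹ = d := by
        rw [inv_inv, mul_assoc, (show Commute d (hom x) from hclo _ hh).eq, inv_mul_cancel_left]
      have := (conj_mem_perp_iff T.hD (hom x)⁻¹ d (pt m)).2 (hpt1 m)
      rwa [hf, inv_inv] at this
    refine T.f_inj hd hmem (hpt1 _) ?_
    rw [hpt2, ← tp_mv, map_mul, map_mul, map_inv]
    show T.f hd ((lift (e x))⁻¹ * pt m * lift (e x)) = _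
    rw [T.f_mul hd (mul_mem (inv_mem hh) (hclp m)) hh, T.f_mul hd (inv_mem hh) (hclp m), T.f_inv hd hh, hl3, hpt2]

/-- a group of type M(24) fits the interface -/
theorem exists_model (hD : Cfsg.IsThreeTranspositionGroup D) (hprim : Cfsg.IsPrimitiveUnderConj D)
    (h : Cfsg.IsOfTypeM24 H D) : Nonempty (Model S D) := by
  classical
  obtain ⟨Q, i1, i2, E, Q₂, i3, i4, E₂, F, iF, iF', S22, S23, hM, ⟨T⟩⟩ :=
    FischerMTypes.M24Data.exists_step hD hprim h
  have P := FischerMTypes.M24Data.pinned S22 S23 hM h T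
  obtain ⟨e, he⟩ := FischerUniq91.Eight.Main.exists_iso' S23.hD S23.hprim hM
  have hgen : ∀ g < 10, ∃ p : Cfsg.Spor.Fi23.Gen, val [g] = PresentedGroup.of p := by
    intro g hg
    rw [CosetEnum.Fi23Out.val_singleton]
    refine ⟨(CosetEnum.Fi23x31671.letters.sym g).1, ?_⟩
    rw [CosetEnum.Letters.phi_of_lt (show g < CosetEnum.Fi23x31671.letters.K from hg)]
    interval_cases g <;> rfl
  have he' : ∀ g < 10, (e : G23 ≃* Q) (val [g]) ∈ E := fun g hg => by
    obtain ⟨p, hp⟩ := hgen g hg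
    rw [hp]
    exact he p
  have hpar : ∀ a ∈ D, a ∉ commutator H := fun a ha => FischerMTypes.ParityM24.parity S22 S23 T hM P ha
  exact ⟨⟨hD.2.1, fun a ha => mul_self hD.1 ha, fun a ha => ne_one hD.1 ha, hD.2.2, hprim.1, hprim.2.2, T.hZ,
    hprim.2.1.elim fun a ha => ⟨a, ha.1⟩,
    fun a ha => (exists_frame S T P hpar e he' S23.hD S23.hcl ha).some,
    fun a ha x hx hax hne => P.trace_card a ha x ⟨hx, hax, hne⟩⟩⟩

end

end Cfsg.Agent.Lib.FischerUniq24
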