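import Cfsg.Agent.S2079
import Cfsg.Agent.Lib.FischerUniq24.Frame

/-!
A non-commuting pair with its frames: the perp sets of `l` and of a transposition `X` next to it glue by the
symmetry of the diagram, since the outer automorphism group of Fi22 has order two, and the common neighbours
of `l` and the new transposition are forced by the orbit sums of eight letters.
-/

set_option autoImplicit false
set_option maxRecDepth 20000
set_option linter.style.haveILetI false
set_option linter.unusedSectionVars false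

namespace Cfsg.Agent.Lib.FischerUniq24

open Cfsg.Agent.Lib
open Cfsg.Agent.Lib.CosetEnum (force force_eq allBelow allBelow_iff get32)
open Cfsg.Agent.Lib.CosetEnum.Fi23Out (Setup val zz J sc)
open Cfsg.Agent.Lib.Fi22Mult (Node gen₂₂ wp)
open Cfsg.Agent.Lib.FischerMTypes.Basic Cfsg.Agent.Lib.FischerMTypes.Primitive Cfsg.Agent.Lib.FischerMTypes.Levels

/-- The permuted letters of a word of Fi22. -/
def flipWord (w : List Node) : List ℕ := w.map fun y => idx22 (flip22 y)

/-- A permuted word fixes the suborbit of length 3510. -/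
noncomputable def flipAt (w : List ℕ) (i : ℕ) : Bool :=
  force (get32 CosetEnum.Fi23x31671.orbPts2 i) fun q => Nat.beq (sc w q) q

theorem flip_spider : allBelow 3510 (flipAt (flipWord Fi22Mult.spider)) = true := by decide +kernel

theorem flip_seven₁ : allBelow 3510 (flipAt (flipWord Fi22Mult.seven₁)) = true := by decide +kernel

theorem flip_seven₂ : allBelow 3510 (flipAt (flipWord Fi22Mult.seven₂)) = true := by decide +kernel

theorem idx22_ne_j : ∀ y, idx22 y ∈ nine := fun y => by cases y <;> decide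

theorem nodeM_ne_zero : ∀ y, nodeM.getD (idx22 y) 0 ≠ 0 := fun y => by cases y <;> decide

variable {G : Type*} [Group G] {D : Set G} (S : Setup)

/-- A non-commuting pair with its two frames. -/
structure Pair (D : Set G) where
  /-- the first transposition -/
  l : G
  /-- the frame at the first transposition -/
  Fl : Frame S D l
  /-- the frame at the base point of the first frame -/
  FX : Frame S D (Fl.pt Setup.o)
  hl : l ∈ D
  base : FX.pt Setup.o = l
  glue : ∀ y : Node, FX.pt (ndPt (idx22 (flip22 y))) = Fl.pt (ndPt (idx22 y))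
  far : ¬ Commute l (FX.pt (ndPt 7))
  comm_K : ∀ g ∈ gK, Commute (FX.pt (ndPt 7)) (Fl.pt (ndPt g))
  comm_t : Commute (FX.pt (ndPt 7)) (Fl.pt (ofN 23118))
  not_a : ¬ Commute (FX.pt (ndPt 7)) (Fl.pt (ndPt 0))

/-- Words in elements `f (t y) * c` with `c` an involution commuting with the image of `f`. -/
theorem lift_split {α Γ : Type*} [Group Γ] (f : Γ →* G) {c : G} (hc : c * c = 1) (hcom : ∀ x, Commute c (f x))
    (t : α → Γ) (z : α → G) (hz : ∀ y, z y = f (t y) * c) (r : FreeGroup α) :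
    ∃ p, (p = 1 ∨ p = c) ∧ FreeGroup.lift z r = f (FreeGroup.lift t r) * p := by
  have hinv : c⁻¹ = c := inv_eq_of_mul_eq_one_right hc
  induction r using FreeGroup.induction_on with
  | C1 => exact ⟨1, Or.inl rfl, by simp⟩
  | of y => exact ⟨c, Or.inr rfl, by simp [hz]⟩
  | inv_of y _ =>
    refine ⟨c, Or.inr rfl, ?_⟩
    simp only [map_inv, FreeGroup.lift_apply_of, hz, mul_inv_rev, hinv]
    rw [← map_inv, (hcom _).eq]
  | mul x y hx hy =>
    obtain ⟨p, hp, ex⟩ := hx
    obtain ⟨q, hq, ey⟩ := hy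
    refine ⟨p * q, ?_, ?_⟩
    · rcases hp with rfl | rfl <;> rcases hq with rfl | rfl <;> simp [hc]
    · have hpc : Commute p (f (FreeGroup.lift t y)) := by
        rcases hp with rfl | rfl
        · exact Commute.one_left _
        · exact hcom _
      rw [map_mul, ex, ey, map_mul, map_mul]
      calc f (FreeGroup.lift t x) * p * (f (FreeGroup.lift t y) * q)
          = f (FreeGroup.lift t x) * (p * f (FreeGroup.lift t y)) * q := by group
        _ = _ := by rw [hpc.eq]; group

theorem node_J (y : Node) : val [idx22 y] ∈ J := mem_J_letter _ (idx22_ne_j y)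

theorem ndPt_ne (y : Node) : ndPt (idx22 y) ≠ Setup.o := by
  intro h
  have e := congrArg Fin.val h
  rw [ndPt, ofN_val (nodeM_lt _ (idx22_lt y))] at e
  exact nodeM_ne_zero y e

theorem commute_node (y : Node) : Commute zz (S.tp (ndPt (idx22 y))) :=
  (comm_o_iff S _).2 (by rw [tp_node S (idx22_lt y)]; exact node_J y)

theorem commute_mv {x : G23} {m : Pt} (h : Commute zz (S.tp m)) (hx : x ∈ J) :
    Commute zz (S.tp (mv S x m)) := by
  rw [← tp_mv]
  have hxz : Commute zz x := (S.central x hx).symm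
  exact (hxz.inv_right.mul_right h).mul_right hxz

theorem eq_of_proj (π : J →* Cfsg.Spor.Fi22)
    (hker : ∀ x : J, π x = 1 ↔ (x : G23) = 1 ∨ (x : G23) = zz) {m n : Pt}
    (hm : Commute zz (S.tp m)) (hn : Commute zz (S.tp n))
    (h : π ⟨_, (comm_o_iff S m).1 hm⟩ = π ⟨_, (comm_o_iff S n).1 hn⟩) : m = n := by
  have h1 : π (⟨_, (comm_o_iff S m).1 hm⟩ * (⟨_, (comm_o_iff S n).1 hn⟩ : J)⁻¹) = 1 := by
    rw [map_mul, map_inv, h, mul_inv_cancel]
  rcases (hker _).1 h1 with e | e
  · exact S.tp_inj (mul_inv_eq_one.1 e)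
  · exfalso
    change S.tp m * (S.tp n)⁻¹ = zz at e
    exact apart S hn (by rw [mul_inv_eq_iff_eq_mul.1 e, hn.eq])

include S in
/-- The symmetry of the diagram as an automorphism of Fi22. -/
theorem exists_flip (π : J →* Cfsg.Spor.Fi22)
    (hπg : ∀ y : Node, ∀ h : val [idx22 y] ∈ J, π ⟨_, h⟩ = gen₂₂ y)
    (hker : ∀ x : J, π x = 1 ↔ (x : G23) = 1 ∨ (x : G23) = zz) :
    ∃ σ : MulAut Cfsg.Spor.Fi22, ∀ y, σ (gen₂₂ y) = gen₂₂ (flip22 y) := by
  have hword : ∀ w : List Node, allBelow 3510 (flipAt (flipWord w)) = true →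
      wp (fun y => gen₂₂ (flip22 y)) w = 1 := by
    intro w hw
    let t : Node → J := fun y => ⟨val [idx22 (flip22 y)], node_J _⟩
    rw [show (fun y => gen₂₂ (flip22 y)) = fun y => π (t y) from funext fun y => (hπg _ _).symm,
      ← Fi22Mult.map_wp]
    have hco : ∀ w : List Node, ((wp t w : J) : G23) = val (flipWord w) := by
      intro w
      induction w with
      | nil => rfl
      | cons y w ih =>
        rw [Fi22Mult.wp_cons, Subgroup.coe_mul, ih]
        exact (CosetEnum.Fi23Out.val_append [idx22 (flip22 y)] (flipWord w)).symm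
    have hlt : ∀ g ∈ flipWord w, g < 10 := fun g hg => by
      obtain ⟨y, -, rfl⟩ := List.mem_map.1 hg
      exact idx22_lt _
    refine (hker _).2 (S.kerJ _ (wp t w).2 fun m hm i hi => ?_)
    rw [hco, S.fix_iff hlt]
    have h := allBelow_iff.1 hw m hm
    simp only [flipAt, force_eq, Nat.beq_eq] at h
    rwa [hi]
  have hr : ∀ r ∈ Cfsg.Spor.coxRelators Cfsg.Spor.Fi22.edges ∪ {r | r ∈ Cfsg.Spor.Fi22.extra},
      FreeGroup.lift (fun y => gen₂₂ (flip22 y)) r = 1 := by
    rintro r (⟨x, hx, y, hy, rfl⟩ | hr)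
    · rw [map_pow, map_mul, FreeGroup.lift_apply_of, FreeGroup.lift_apply_of, ← label_flip x y]
      have hnode : ∀ z : Node, z ∈ Cfsg.Spor.coxNodes Cfsg.Spor.Fi22.edges := fun z => by cases z <;> decide
      have h := PresentedGroup.one_of_mem
        (rels := Cfsg.Spor.coxRelators Cfsg.Spor.Fi22.edges ∪ {r | r ∈ Cfsg.Spor.Fi22.extra})
        (Or.inl ⟨flip22 x, hnode _, flip22 y, hnode _, rfl⟩)
      rwa [map_pow, map_mul] at h
    · rw [Set.mem_ofPred_eq, Fi22Mult.extra_eq] at hr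
      simp only [List.mem_cons, List.not_mem_nil, or_false] at hr
      rcases hr with rfl | rfl | rfl <;> rw [Fi22Mult.lift_word]
      exacts [hword _ flip_spider, hword _ flip_seven₁, hword _ flip_seven₂]
  let f : Cfsg.Spor.Fi22 →* Cfsg.Spor.Fi22 := PresentedGroup.toGroup hr
  have hf : ∀ y, f (gen₂₂ y) = gen₂₂ (flip22 y) := fun y => PresentedGroup.toGroup.of hr
  have hff : f.comp f = MonoidHom.id _ := PresentedGroup.ext fun y => by
    show f (f (gen₂₂ y)) = gen₂₂ y
    rw [hf, hf, flip_flip]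
  exact ⟨f.toMulEquiv f hff hff, hf⟩

/-- The dichotomy for nine points with the relations of Fi22. -/
theorem dichotomy (m : Node → Pt) (hm : ∀ y, Commute zz (S.tp (m y))) (hne : ∀ y, m y ≠ Setup.o)
    (hrel : ∀ r ∈ Cfsg.Spor.coxRelators Cfsg.Spor.Fi22.edges ∪ {r | r ∈ Cfsg.Spor.Fi22.extra},
      ((FreeGroup.lift (fun y => (⟨_, (comm_o_iff S _).1 (hm y)⟩ : J)) r : J) : G23) = 1 ∨
      ((FreeGroup.lift (fun y => (⟨_, (comm_o_iff S _).1 (hm y)⟩ : J)) r : J) : G23) = zz) :
    ∃ x ∈ J, (∀ y, m y = mv S x (ndPt (idx22 y))) ∨ ∀ y, m y = mv S x (ndPt (idx22 (flip22 y))) := by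
  classical
  obtain ⟨π, hsurj, hker, hπg⟩ := exists_proj S
  let t : Node → J := fun y => ⟨_, (comm_o_iff S _).1 (hm y)⟩
  have hr : ∀ r ∈ Cfsg.Spor.coxRelators Cfsg.Spor.Fi22.edges ∪ {r | r ∈ Cfsg.Spor.Fi22.extra},
      FreeGroup.lift (fun y => π (t y)) r = 1 := by
    intro r hr
    rw [show FreeGroup.lift (fun y => π (t y)) = π.comp (FreeGroup.lift t) from
      FreeGroup.ext_hom _ _ fun y => by simp, MonoidHom.comp_apply]
    exact (hker _).2 (hrel r hr)
  let φ : Cfsg.Spor.Fi22 →* Cfsg.Spor.Fi22 := PresentedGroup.toGroup hr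
  have hφ : ∀ y, φ (gen₂₂ y) = π (t y) := fun y => PresentedGroup.toGroup.of hr
  obtain ⟨hsimple, hcard⟩ := Cfsg.Agent.S1696.result
  haveI := hsimple
  haveI : Finite Cfsg.Spor.Fi22 := Nat.finite_of_card_ne_zero (by rw [hcard]; norm_num)
  have hinj : Function.Injective φ := by
    rw [← MonoidHom.ker_eq_bot_iff]
    rcases (MonoidHom.normal_ker φ).eq_bot_or_eq_top with h | h
    · exact h
    · exfalso
      have e : π (t .a) = 1 := by rw [← hφ, ← MonoidHom.mem_ker, h]; trivial
      rcases (hker _).1 e with e | e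
      · refine S.zz_ne ?_
        have e' : S.tr (m .a) * zz * (S.tr (m .a))⁻¹ = 1 := e
        exact conj_eq_one_iff.1 e'
      · exact hne .a (S.tp_eq_zz e)
  let φe : MulAut Cfsg.Spor.Fi22 :=
    MulEquiv.ofBijective φ ⟨hinj, Finite.surjective_of_injective hinj⟩
  obtain ⟨σ, hσ⟩ := exists_flip S π hπg hker
  have hlift : ∀ (x : J) (n : Pt) (hn : Commute zz (S.tp n)),
      π x * π ⟨_, (comm_o_iff S n).1 hn⟩ * (π x)⁻¹ =
        π ⟨_, (comm_o_iff S _).1 (commute_mv S hn (inv_mem x.2))⟩ := by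
    intro x n hn
    rw [← map_inv, ← map_mul, ← map_mul]
    congr 1
    exact Subtype.ext (by
      show (x : G23) * S.tp n * (x : G23)⁻¹ = S.tp _
      rw [← tp_mv, inv_inv])
  have hgen : ∀ y, π ⟨_, (comm_o_iff S _).1 (commute_node S y)⟩ = gen₂₂ y := fun y => by
    rw [← hπg y (node_J y)]
    exact congrArg π (Subtype.ext (tp_node S (idx22_lt y)))
  have hσ' : σ ∉ Cfsg.Inn Cfsg.Spor.Fi22 := by
    rintro ⟨h, hh⟩
    obtain ⟨x, rfl⟩ := hsurj h
    have hmap : ∀ y, mv S (x : G23)⁻¹ (ndPt (idx22 y)) = ndPt (idx22 (flip22 y)) := by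
      intro y
      refine eq_of_proj S π hker (commute_mv S (commute_node S y) (inv_mem x.2)) (commute_node S _) ?_
      rw [← hlift x _ (commute_node S y), hgen, hgen, ← hσ, ← hh, MulAut.conj_apply]
    have hjA := (j_facts S).1
    have hj' : ∀ g ∈ gB, mv S (val [g]) (mv S (x : G23)⁻¹ (ndPt 7)) = mv S (x : G23)⁻¹ (ndPt 7) := by
      intro g hg
      obtain ⟨y, hy, rfl⟩ := (gB_eq g).1 hg
      obtain ⟨z, rfl⟩ : ∃ z, flip22 z = y := ⟨flip22 y, flip_flip y⟩
      have hzg : z ≠ .g := fun e => hy (by rw [e]; rfl)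
      have e1 : val [idx22 (flip22 z)] = (x : G23) * val [idx22 z] * (x : G23)⁻¹ := by
        rw [← tp_node S (idx22_lt _), ← hmap z, ← tp_mv, inv_inv, tp_node S (idx22_lt _)]
      rw [e1, mv_mul, mv_mul, mv_inv' , hjA _ ((gA_eq _).2 ⟨z, hzg, rfl⟩)]
    have h1 := only_o S hj'
    have h2 : ndPt 7 = Setup.o := by
      have e := congrArg (mv S (x : G23)) h1
      rwa [mv_inv', J_fix S x.2] at e
    exact (j_facts S).2 (by rw [h2]; exact J_fix S Setup.zz_mem)
  have h2 : (φe : MulAut _) ∈ Cfsg.Inn Cfsg.Spor.Fi22 ∨ σ⁻¹ * φe ∈ Cfsg.Inn Cfsg.Spor.Fi22 := by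
    by_contra hcon
    rw [not_or] at hcon
    have hout := Cfsg.Agent.S2079.result
    rw [Nat.card_eq_two_iff] at hout
    obtain ⟨a, b, hab, huniv⟩ := hout
    have key : ∀ q : Cfsg.Out Cfsg.Spor.Fi22, q = a ∨ q = b := fun q => by
      have hq : q ∈ ({a, b} : Set (Cfsg.Out Cfsg.Spor.Fi22)) := huniv ▸ Set.mem_univ q
      simpa using hq
    have n1 : (QuotientGroup.mk φe : Cfsg.Out Cfsg.Spor.Fi22) ≠ QuotientGroup.mk (1 : MulAut _) := fun h => by
      rw [QuotientGroup.eq, mul_one, inv_mem_iff] at h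
      exact hcon.1 h
    have n2 : (QuotientGroup.mk σ : Cfsg.Out Cfsg.Spor.Fi22) ≠ QuotientGroup.mk (1 : MulAut _) := fun h => by
      rw [QuotientGroup.eq, mul_one, inv_mem_iff] at h
      exact hσ' h
    have n3 : (QuotientGroup.mk φe : Cfsg.Out Cfsg.Spor.Fi22) ≠ QuotientGroup.mk σ := fun h => by
      rw [eq_comm, QuotientGroup.eq] at h
      exact hcon.2 h
    rcases key (QuotientGroup.mk φe) with e | e <;> rcases key (QuotientGroup.mk σ) with e' | e' <;>
      rcases key (QuotientGroup.mk (1 : MulAut _)) with e'' | e'' <;>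
      simp_all
  rcases h2 with ⟨h, hh⟩ | ⟨h, hh⟩
  · obtain ⟨x, rfl⟩ := hsurj h
    refine ⟨(x : G23)⁻¹, inv_mem x.2, Or.inl fun y => ?_⟩
    refine eq_of_proj S π hker (hm y) (commute_mv S (commute_node S y) (inv_mem x.2)) ?_
    rw [← hlift x _ (commute_node S y), hgen]
    show π (t y) = _
    rw [← hφ, ← MulAut.conj_apply, hh]
    rfl
  · obtain ⟨x, hx⟩ := hsurj (σ h)
    refine ⟨(x : G23)⁻¹, inv_mem x.2, Or.inr fun y => ?_⟩
    refine eq_of_proj S π hker (hm y) (commute_mv S (commute_node S _) (inv_mem x.2)) ?_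
    rw [← hlift x _ (commute_node S _), hgen, hx]
    show π (t y) = _
    rw [← hφ, ← hσ, ← map_inv, ← map_mul, ← map_mul]
    have e := congrArg (fun f : MulAut Cfsg.Spor.Fi22 => σ (f (gen₂₂ y))) hh
    simp only [MulAut.conj_apply, MulAut.mul_apply, MulAut.apply_inv_self] at e
    exact e.symm

variable (M : Model S D)

include M in
/-- the pair -/
theorem exists_pair : Nonempty (Pair S D) := by
  classical
  obtain ⟨l, hl⟩ := M.nonempty
  let Fl := M.frame l hl
  set X := Fl.pt Setup.o with hXdef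
  have hXp := Fl.pt_mem Setup.o
  have hX : X ∈ D := hXp.1
  have hXX := M.sq X hX
  have hll := M.sq l hl
  obtain ⟨m₀, hm₀⟩ := (M.frame X hX).pt_surj l ⟨hl, Ne.symm hXp.2.1, hXp.2.2.symm⟩
  let F1 := (M.frame X hX).twist (S.tr m₀)
  have hF1o : F1.pt Setup.o = l := by
    rw [Frame.twist_pt, show mv S (S.tr m₀)⁻¹ Setup.o = m₀ by
      rw [mv, map_inv, inv_inv]; exact S.tr_spec m₀, hm₀]
  have hXl : Commute l X := hXp.2.2
  let z : Node → G := fun y => Fl.pt (ndPt (idx22 y))
  have hzX : ∀ y, z y ∈ perp D X := by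
    intro y
    refine ⟨Fl.pt_D _, fun e => ndPt_ne y (Fl.pt_inj e), ?_⟩
    refine (Fl.commute_iff hll Setup.o _).2 ?_
    rw [S.tp_o]
    exact commute_node S y
  choose m hm using fun y => F1.pt_surj (z y) (hzX y)
  have hmc : ∀ y, Commute zz (S.tp (m y)) := fun y => by
    have h := (F1.commute_iff hXX Setup.o (m y)).1 (by rw [hF1o, hm]; exact Fl.comm_pt _)
    rwa [S.tp_o] at h
  have hmne : ∀ y, m y ≠ Setup.o := fun y e => (Fl.pt_mem (ndPt (idx22 y))).2.1
    ((hm y).symm.trans ((congrArg F1.pt e).trans hF1o))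
  obtain ⟨π, hsurj, hker, hπg⟩ := exists_proj S
  have hrel : ∀ r ∈ Cfsg.Spor.coxRelators Cfsg.Spor.Fi22.edges ∪ {r | r ∈ Cfsg.Spor.Fi22.extra},
      ((FreeGroup.lift (fun y => (⟨_, (comm_o_iff S _).1 (hmc y)⟩ : J)) r : J) : G23) = 1 ∨
      ((FreeGroup.lift (fun y => (⟨_, (comm_o_iff S _).1 (hmc y)⟩ : J)) r : J) : G23) = zz := by
    intro r hr
    let t0 : Node → J := fun y => ⟨val [idx22 y], node_J y⟩
    let t1 : Node → J := fun y => ⟨_, (comm_o_iff S _).1 (hmc y)⟩
    have h0 : π (FreeGroup.lift t0 r) = 1 := by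
      have e : π.comp (FreeGroup.lift t0) = FreeGroup.lift gen₂₂ :=
        FreeGroup.ext_hom _ _ fun y => by simpa [t0] using hπg y (node_J y)
      rw [← MonoidHom.comp_apply, e]
      have h := PresentedGroup.one_of_mem hr
      rw [← h]
      exact DFunLike.congr_fun (FreeGroup.ext_hom (FreeGroup.lift gen₂₂)
        (PresentedGroup.mk _) fun y => by simp [gen₂₂]; rfl) r
    obtain ⟨p, hp, ep⟩ := lift_split (Fl.hom.comp J.subtype) hll (fun x => Fl.hom_comm _) t0 z
      (fun y => by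
        show z y = Fl.hom (val [idx22 y]) * l
        rw [← tp_node S (idx22_lt y)]
        exact Fl.pt_eq hll _) r
    obtain ⟨q, hq, eq⟩ := lift_split (F1.hom.comp J.subtype) hXX (fun x => F1.hom_comm _) t1 z
      (fun y => by
        show z y = F1.hom (S.tp (m y)) * X
        rw [← hm]
        exact F1.pt_eq hXX _) r
    set j := FreeGroup.lift t1 r with hj
    have hlz : Fl.hom zz = X * l := by
      rw [← S.tp_o, Fl.hom_tp]
    have hXz : F1.hom zz = l * X := by
      rw [← S.tp_o, F1.hom_tp, hF1o]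
    have hmem : F1.hom (j : G23) = 1 ∨ F1.hom (j : G23) = l ∨ F1.hom (j : G23) = X ∨
        F1.hom (j : G23) = l * X := by
      have e : F1.hom (j : G23) = Fl.hom ((FreeGroup.lift t0 r : J) : G23) * p * q⁻¹ := by
        rw [eq_mul_inv_iff_mul_eq]
        exact eq.symm.trans ep
      have hXi := inv_eq_of_mul_eq_one_right hXX
      have hXlX : X * (l * X) = l := by rw [← mul_assoc, hXl.symm.eq, mul_assoc, hXX, mul_one]
      rcases (hker _).1 h0 with h | h <;> rw [h] at e <;> rcases hp with rfl | rfl <;>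
        rcases hq with rfl | rfl <;>
        simp only [map_one, hlz, one_mul, mul_one, inv_one, hXi] at e
      · exact Or.inl e
      · exact Or.inr (Or.inr (Or.inl e))
      · exact Or.inr (Or.inl e)
      · exact Or.inr (Or.inr (Or.inr e))
      · exact Or.inr (Or.inr (Or.inr (by rw [e, hXl.eq])))
      · refine Or.inr (Or.inl ?_)
        rw [e, mul_assoc, hXlX]
      · refine Or.inr (Or.inr (Or.inl ?_))
        rw [e, mul_assoc, hll, mul_one]
      · refine Or.inl ?_
        rw [e, mul_assoc X, hll, mul_one, hXX]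
    rcases hmem with h | h | h | h
    · exact Or.inl (F1.hom_injective hXX (h.trans (map_one _).symm))
    · exfalso
      refine F1.hom_ne hXX (M.ne X hX) ((j : G23) * zz) ?_
      rw [map_mul, h, hXz, ← mul_assoc, hll, one_mul]
    · exact absurd h (F1.hom_ne hXX (M.ne X hX) _)
    · exact Or.inr (F1.hom_injective hXX (h.trans hXz.symm))
  have htrace : ∀ u, u ∈ perp D X → ¬ Commute l u → ∀ gens : List ℕ, (∀ g ∈ gens, g < 10) →
      (∀ g ∈ gens, Commute (Fl.pt (ndPt g)) u) →
      Inv S gens (fun i => Commute (Fl.pt i) u) ∧ {i | Commute (Fl.pt i) u}.ncard = 3240 := by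
    intro u hu hlu gens hgl hg
    refine ⟨fun g hgm i => ?_, ?_⟩
    · have hgl' := hgl g hgm
      set a := Fl.pt (ndPt g)
      have e : Fl.pt (mv S (val [g]) i) = a⁻¹ * Fl.pt i * a := by
        rw [← Fl.eqv, ← tp_node S hgl', Fl.hom_tp, mul_inv_rev, inv_eq_of_mul_eq_one_right hll]
        have hc : Commute l (a⁻¹ * Fl.pt i * a) :=
          ((Fl.comm_pt (ndPt g)).inv_right.mul_right (Fl.comm_pt i)).mul_right (Fl.comm_pt (ndPt g))
        calc l * a⁻¹ * Fl.pt i * (a * l) = l * (a⁻¹ * Fl.pt i * a) * l := by group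
          _ = a⁻¹ * Fl.pt i * a := by rw [hc.eq, mul_assoc _ l l, hll, mul_one]
      show Commute (Fl.pt (mv S (val [g]) i)) u ↔ Commute (Fl.pt i) u
      rw [e]
      have hu' : a⁻¹ * u * a = u := by rw [mul_assoc, ← (hg g hgm).eq, inv_mul_cancel_left]
      have := commute_conj_iff a⁻¹ (Fl.pt i) u
      simp only [MulAut.conj_apply, inv_inv, hu'] at this
      exact this
    · have hne : (perp₂ D l u).Nonempty :=
        ⟨X, hXp, ⟨hX, Ne.symm hu.2.1, hu.2.2.symm⟩⟩
      rw [← M.trace l hl u hu.1 hlu hne, ← Set.ncard_image_of_injective _ Fl.pt_inj]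
      congr 1
      ext v
      constructor
      · rintro ⟨i, hi, rfl⟩
        exact ⟨Fl.pt_mem i, Fl.pt_D i, fun e => hlu (e ▸ Fl.comm_pt i), hi.symm⟩
      · rintro ⟨hv, -, -, hvu⟩
        obtain ⟨i, rfl⟩ := Fl.pt_surj v hv
        exact ⟨i, hvu.symm, rfl⟩
  have hfar : ∀ {F : Frame S D X}, F.pt Setup.o = l → ∀ j : Pt, mv S zz j ≠ j → ¬ Commute l (F.pt j) := by
    intro F hFo j hj h
    refine hj ?_
    rw [← hFo] at h
    have hc := (F.commute_iff hXX Setup.o j).1 h
    rw [S.tp_o] at hc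
    refine S.tp_inj ?_
    rw [← tp_mv, mul_assoc, ← hc.eq, inv_mul_cancel_left]
  have hju : ∀ y, y ≠ (.g : Node) → Commute (S.tp (ndPt (idx22 y))) (S.tp (ndPt 7)) := fun y hy => by
    have h := (j_facts S).1 _ ((gA_eq _).2 ⟨y, hy, rfl⟩)
    rw [tp_node S (idx22_lt y)]
    have e := tp_mv S (val [idx22 y]) (ndPt 7)
    rw [h, mul_assoc, inv_mul_eq_iff_eq_mul] at e
    exact e.symm
  obtain ⟨x, hx, hin | hout⟩ := dichotomy S m hmc hmne hrel
  · exfalso
    have hu := F1.pt_mem (mv S x (ndPt 7))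
    have hlu : ¬ Commute l (F1.pt (mv S x (ndPt 7))) := hfar hF1o _ fun e => (j_facts S).2 (by
      have e' : mv S (x * zz) (ndPt 7) = mv S x (ndPt 7) := by rw [mv_mul]; exact e
      rw [S.central x hx, mv_mul] at e'
      exact mv_injective S x e')
    have hg : ∀ g ∈ gA, Commute (Fl.pt (ndPt g)) (F1.pt (mv S x (ndPt 7))) := by
      intro g hg
      obtain ⟨y, hy, rfl⟩ := (gA_eq g).1 hg
      show Commute (z y) _
      rw [← hm y, F1.commute_iff hXX, hin y, ← tp_mv, ← tp_mv]
      have := (commute_conj_iff x⁻¹ (S.tp (ndPt (idx22 y))) (S.tp (ndPt 7))).2 (hju y hy)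
      simpa only [MulAut.conj_apply, inv_inv] using this
    obtain ⟨hinv, hn⟩ := htrace _ hu hlu gA (by decide) hg
    exact no_traceA S hinv hu.2.2 (hg 0 (by decide)) hn
  · let F2 := F1.twist x⁻¹
    have hpt : ∀ n, F2.pt n = F1.pt (mv S x n) := fun n => by
      rw [Frame.twist_pt, inv_inv]
    have hF2o : F2.pt Setup.o = l := by rw [hpt, J_fix S hx, hF1o]
    have hglue : ∀ y, F2.pt (ndPt (idx22 (flip22 y))) = z y := fun y => by rw [hpt, ← hout y, hm]
    have hu := F2.pt_mem (ndPt 7)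
    have hlu : ¬ Commute l (F2.pt (ndPt 7)) := hfar hF2o _ (j_facts S).2
    have hg : ∀ g ∈ gB, Commute (Fl.pt (ndPt g)) (F2.pt (ndPt 7)) := by
      intro g hg
      obtain ⟨y, hy, rfl⟩ := (gB_eq g).1 hg
      show Commute (z y) _
      rw [← hglue y, F2.commute_iff hXX]
      exact hju _ fun e => hy (by have := flip_flip y; rw [e] at this; exact this.symm)
    obtain ⟨hinv, hn⟩ := htrace _ hu hlu gB (by decide) hg
    obtain ⟨-, ht, hna, hall⟩ := traceB S hinv hu.2.2 (hg 1 (by decide)) hn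
    have h7 : Commute (Fl.pt (ndPt 7)) (F2.pt (ndPt 7)) :=
      (hall (ndPt 7)).2 (by rw [ndPt, ofN_val (nodeM_lt 7 (by norm_num))]; decide +kernel)
    refine ⟨⟨l, Fl, F2, hl, hF2o, hglue, hlu, fun g hg' => ?_, ht.symm, fun h => hna h.symm⟩⟩
    by_cases h : g = 7
    · subst h; exact h7.symm
    · exact (hg g ((show ∀ g ∈ gK, g ≠ 7 → g ∈ gB by decide) g hg' h)).symm

end Cfsg.Agent.Lib.FischerUniq24
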