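import Cfsg.Agent.Lib.FischerUniq24.Map

/-!
A group of type M(24) is isomorphic to the presented Fi24, the generators going to transpositions: the relators
centralise all transpositions, as the map of the points follows every word. Hence two such groups are isomorphic
by a map matching the transpositions.
-/

set_option autoImplicit false
set_option maxRecDepth 20000
set_option linter.style.haveILetI false
set_option linter.unusedSectionVars false

namespace Cfsg.Agent.Lib.FischerUniq24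

open Cfsg.Agent.Lib
open Cfsg.Agent.Lib.CosetEnum.Fi23Out (Setup)
open Cfsg.Agent.Lib.Fi24 (xg emb)
open Cfsg.Agent.Lib.Fi24.Out (OFacts)
open Cfsg.Agent.Lib.FischerMTypes.Basic Cfsg.Agent.Lib.FischerMTypes.Primitive Cfsg.Agent.Lib.FischerMTypes.Levels

variable {G : Type*} [Group G] {D : Set G} {S : Setup} {O : OFacts} {P : Pair S D}

/-- The images of the letters. -/
noncomputable def im (P : Pair S D) (g : ℕ) : G :=
  if g = 1 then P.FX.pt (ndPt 7) else if g = 0 then P.l else P.Fl.pt (ndPt (g - 2))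

theorem im_mem (P : Pair S D) (g : ℕ) : im P g ∈ D := by
  unfold im
  split_ifs
  exacts [P.FX.pt_D _, P.hl, P.Fl.pt_D _]

theorem img_letter (M : Model S D) (B : Base O P) {g : ℕ} (hg : g < 12) (p : Pt24) :
    img B (O.mv (xg g) p) = (im P g)⁻¹ * img B p * im P g := by
  unfold im
  split_ifs with h1 h0
  · subst h1; exact img_k M B p
  · subst h0
    rw [← B.hom_l (mem_H (by norm_num) (by norm_num))]
    exact img_hom B ⟨_, mem_H (by norm_num) (by norm_num)⟩ p
  · have hm : xg (g - 2 + 2) ∈ Fi24.H := mem_H (by omega) (by omega)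
    rw [← B.hom_letter (g - 2) (by omega) hm]
    have e := img_hom B ⟨_, hm⟩ p
    simpa only [show g - 2 + 2 = g by omega] using e

theorem img_word (M : Model S D) (B : Base O P) (r : FreeGroup Cfsg.Spor.Fi24.Gen) : ∀ p : Pt24,
    img B (O.mv (PresentedGroup.mk Fi24.pres r) p) =
      (FreeGroup.lift (fun x => im P (Fi24.col x)) r)⁻¹ * img B p *
        FreeGroup.lift (fun x => im P (Fi24.col x)) r := by
  induction r using FreeGroup.induction_on with
  | C1 => intro p; simp [O.mv_one]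
  | of x =>
    intro p
    have e : PresentedGroup.mk Fi24.pres (FreeGroup.of x) = xg (Fi24.col x) := by
      rw [xg, Fi24.genOf_col]; rfl
    rw [e, FreeGroup.lift_apply_of]
    exact img_letter M B (Fi24.col_lt x) p
  | inv_of x ih =>
    intro p
    rw [map_inv, map_inv, inv_inv]
    have h := ih (O.mv (PresentedGroup.mk Fi24.pres (FreeGroup.of x))⁻¹ p)
    rw [O.mv_inv'] at h
    rw [h]
    group
  | mul x y hx hy =>
    intro p
    rw [map_mul, map_mul, O.mv_mul, hy, hx]
    group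

theorem conj_perp (M : Model S D) (g : G) {a y : G} (hy : y ∈ perp D a) :
    g * y * g⁻¹ ∈ perp D (g * a * g⁻¹) := by
  refine ⟨M.conj g y hy.1, fun e => hy.2.1 ?_, ?_⟩
  · exact mul_left_cancel (mul_right_cancel e)
  · exact (hy.2.2 : Commute a y).map (MulAut.conj g).toMonoidHom

/-- The transpositions at distance at most two. -/
def near (D : Set G) (a : G) : Set G := {y | y = a ∨ y ∈ perp D a ∨ ∃ z ∈ perp D a, y ∈ perp D z}

theorem near_conj (M : Model S D) (g a : G) :
    near D (g * a * g⁻¹) = (fun x => g * x * g⁻¹) '' near D a := by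
  have fwd : ∀ g a y, y ∈ near D a → g * y * g⁻¹ ∈ near D (g * a * g⁻¹) := by
    rintro g a y (rfl | h | ⟨z, hz, h⟩)
    · exact Or.inl rfl
    · exact Or.inr (Or.inl (conj_perp M g h))
    · exact Or.inr (Or.inr ⟨_, conj_perp M g hz, conj_perp M g h⟩)
  ext y
  constructor
  · intro hy
    refine ⟨g⁻¹ * y * g, ?_, by show g * (g⁻¹ * y * g) * g⁻¹ = y; group⟩
    have h := fwd g⁻¹ _ _ hy
    rwa [inv_inv, show g⁻¹ * (g * a * g⁻¹) * g = a by group] at h
  · rintro ⟨x, hx, rfl⟩
    exact fwd g a x hx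

theorem exists_conj (M : Model S D) (B : Base O P) (e : G24) :
    ∃ w : G, ∀ p, img B (O.mv e p) = w⁻¹ * img B p * w := by
  obtain ⟨r, rfl⟩ := QuotientGroup.mk'_surjective _ e
  exact ⟨_, img_word M B r⟩

theorem img_mem (M : Model S D) (B : Base O P) (p : Pt24) : img B p ∈ D := by
  obtain ⟨w, hw⟩ := exists_conj M B (Fi24.Cert.rep xg Fi24.tree p.1)
  have h := hw Fi24.pt0
  rw [show O.mv (Fi24.Cert.rep xg Fi24.tree p.1) Fi24.pt0 = p from O.mv_rep p.1 p.2, img_zero] at h
  rw [h]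
  have := M.conj w⁻¹ P.l P.hl
  rwa [inv_inv] at this

theorem perp_sub (M : Model S D) (B : Base O P) (p : Pt24) : perp D (img B p) ⊆ Set.range (img B) := by
  intro y hy
  obtain ⟨w, hw⟩ := exists_conj M B (Fi24.Cert.rep xg Fi24.tree p.1)
  have h := hw Fi24.pt0
  rw [show O.mv (Fi24.Cert.rep xg Fi24.tree p.1) Fi24.pt0 = p from O.mv_rep p.1 p.2, img_zero] at h
  have h1 := conj_perp M w hy
  rw [h, show w * (w⁻¹ * P.l * w) * w⁻¹ = P.l by group] at h1
  obtain ⟨m, hm⟩ := P.Fl.pt_surj _ h1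
  exact ⟨O.mv (Fi24.Cert.rep xg Fi24.tree p.1) (emb m), by rw [hw, img_emb, hm]; group⟩

/-- The image is all of the class. -/
theorem range_img (M : Model S D) (B : Base O P) : Set.range (img B) = D := by
  have hsub : ∀ p, near D (img B p) ⊆ Set.range (img B) := by
    rintro p y (rfl | h | ⟨z, hz, h⟩)
    · exact ⟨p, rfl⟩
    · exact perp_sub M B p h
    · obtain ⟨q, rfl⟩ := perp_sub M B p hz
      exact perp_sub M B q h
  have hX : ∀ m, P.Fl.pt m ∈ perp D P.l := P.Fl.pt_mem
  have hl : Set.range (img B) = near D P.l := by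
    refine Set.Subset.antisymm ?_ (by rw [← img_zero B]; exact hsub _)
    rintro _ ⟨p, rfl⟩
    rcases orbits O p with rfl | ⟨m, rfl⟩ | ⟨x, rfl⟩
    · exact Or.inl (img_zero B)
    · rw [img_emb]; exact Or.inr (Or.inl (hX m))
    · refine Or.inr (Or.inr ⟨(B.hom x)⁻¹ * P.Fl.pt Setup.o * B.hom x, ?_, ?_⟩)
      · obtain ⟨n, -, hn⟩ := B.small x Setup.o
        rw [hn]; exact hX n
      · rw [img_orbit]
        have := conj_perp M (B.hom x)⁻¹ (P.FX.pt_mem (ndPt 7))
        rwa [inv_inv] at this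
  have hall : ∀ p, near D (img B p) = Set.range (img B) := by
    intro p
    obtain ⟨w, hw⟩ := exists_conj M B (Fi24.Cert.rep xg Fi24.tree p.1)
    have h := hw Fi24.pt0
    rw [show O.mv (Fi24.Cert.rep xg Fi24.tree p.1) Fi24.pt0 = p from O.mv_rep p.1 p.2, img_zero] at h
    have h2 := near_conj M w⁻¹ P.l
    rw [inv_inv, ← h, ← hl] at h2
    rw [h2]
    ext y
    constructor
    · rintro ⟨_, ⟨q, rfl⟩, rfl⟩
      exact ⟨O.mv (Fi24.Cert.rep xg Fi24.tree p.1) q, hw q⟩
    · rintro ⟨q, rfl⟩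
      refine ⟨_, ⟨O.mv (Fi24.Cert.rep xg Fi24.tree p.1)⁻¹ q, rfl⟩, ?_⟩
      have := hw (O.mv (Fi24.Cert.rep xg Fi24.tree p.1)⁻¹ q)
      rw [O.mv_inv'] at this
      exact this.symm
  have hblock : ∀ g : G, (fun x => g * x * g⁻¹) '' Set.range (img B) = Set.range (img B) ∨
      Disjoint ((fun x => g * x * g⁻¹) '' Set.range (img B)) (Set.range (img B)) := by
    intro g
    rw [or_iff_not_imp_right, Set.not_disjoint_iff]
    rintro ⟨x, ⟨a, ⟨p, rfl⟩, rfl⟩, q, hq⟩
    replace hq : img B q = g * img B p * g⁻¹ := hq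
    have h1 := hall q
    rw [hq, near_conj M, hall p] at h1
    exact h1
  rcases M.prim (Set.range (img B)) (by rintro _ ⟨p, rfl⟩; exact img_mem M B p) hblock with h | h
  · have e := h ⟨Fi24.pt0, img_zero B⟩ ⟨emb Setup.o, img_emb B _⟩
    exact absurd e.symm (hX Setup.o).2.1
  · exact h

theorem relators (M : Model S D) (B : Base O P) :
    ∀ r ∈ Fi24.pres, FreeGroup.lift (fun x => im P (Fi24.col x)) r = 1 := by
  intro r hr
  set w := FreeGroup.lift (fun x => im P (Fi24.col x)) r with hw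
  have hc : ∀ y ∈ D, Commute y w := by
    intro y hy
    rw [← range_img M B] at hy
    obtain ⟨p, rfl⟩ := hy
    have h := img_word M B r p
    rw [PresentedGroup.one_of_mem hr, O.mv_one, ← hw] at h
    show img B p * w = w * img B p
    conv_rhs => rw [h]
    group
  have hz : w ∈ Subgroup.center G := by
    rw [Subgroup.mem_center_iff]
    intro g
    have hg : g ∈ Subgroup.closure D := M.gen ▸ Subgroup.mem_top g
    induction hg using Subgroup.closure_induction with
    | mem y hy => exact hc y hy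
    | one => simp
    | mul a b _ _ ha hb => exact (Commute.mul_left ha hb).eq
    | inv a _ ha => exact (Commute.inv_left (show Commute a w from ha)).eq
  rwa [M.hZ, Subgroup.mem_bot] at hz

theorem img_injective (M : Model S D) (B : Base O P) : Function.Injective (img B) := by
  have hzero : ∀ p, img B p = P.l → p = Fi24.pt0 := by
    intro p hp
    rcases orbits O p with rfl | ⟨m, rfl⟩ | ⟨x, rfl⟩
    · rfl
    · rw [img_emb] at hp
      exact absurd hp (P.Fl.pt_mem m).2.1
    · exfalso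
      rw [img_orbit] at hp
      have hu : P.FX.pt (ndPt 7) = P.l := by
        calc P.FX.pt (ndPt 7) = B.hom x * ((B.hom x)⁻¹ * P.FX.pt (ndPt 7) * B.hom x) * (B.hom x)⁻¹ := by group
          _ = P.l := by rw [hp, ← (B.comm x).eq, mul_inv_cancel_right]
      have := P.far
      rw [hu] at this
      exact this (Commute.refl _)
  intro p q h
  obtain ⟨w, hw⟩ := exists_conj M B (Fi24.Cert.rep xg Fi24.tree q.1)⁻¹
  have hq : O.mv (Fi24.Cert.rep xg Fi24.tree q.1)⁻¹ q = Fi24.pt0 := by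
    conv_lhs => arg 2; rw [← show O.mv (Fi24.Cert.rep xg Fi24.tree q.1) Fi24.pt0 = q from O.mv_rep q.1 q.2]
    exact O.mv_inv _ _
  have e := hw p
  rw [h, ← hw q, hq, img_zero] at e
  exact (O.mv (Fi24.Cert.rep xg Fi24.tree q.1)⁻¹).injective ((hzero _ e).trans hq.symm)

theorem exists_iso_model (M : Model S D) : ∃ e : Cfsg.Spor.Fi24 ≃* G, ∀ x, e (PresentedGroup.of x) ∈ D := by
  obtain ⟨O⟩ := Fi24.Out.nonempty_oFacts
  obtain ⟨P⟩ := exists_pair S M
  obtain ⟨B⟩ := exists_base O M P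
  let φ : G24 →* G := PresentedGroup.toGroup (relators M B)
  have hact : ∀ e p, img B (O.mv e p) = (φ e)⁻¹ * img B p * φ e := by
    intro e p
    obtain ⟨r, rfl⟩ := QuotientGroup.mk'_surjective _ e
    exact img_word M B r p
  have hl : φ (xg 0) = P.l := by
    show φ (PresentedGroup.of (Fi24.genOf 0)) = _
    rw [PresentedGroup.toGroup.of]
    rfl
  have hsurj : Function.Surjective φ := by
    rw [← MonoidHom.range_eq_top, eq_top_iff, ← M.gen, Subgroup.closure_le, ← range_img M B]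
    rintro _ ⟨p, rfl⟩
    refine ⟨(Fi24.Cert.rep xg Fi24.tree p.1)⁻¹ * xg 0 * Fi24.Cert.rep xg Fi24.tree p.1, ?_⟩
    rw [map_mul, map_mul, map_inv, hl, ← img_zero B, ← hact]
    exact congrArg (img B) (O.mv_rep p.1 p.2)
  have hinj : Function.Injective φ := by
    rw [← MonoidHom.ker_eq_bot_iff, eq_bot_iff]
    intro e he
    rw [Subgroup.mem_bot]
    refine O.mv_inj fun i => img_injective M B ?_
    rw [hact, MonoidHom.mem_ker.1 he, O.mv_one, inv_one, one_mul, mul_one]
  refine ⟨MulEquiv.ofBijective φ ⟨hinj, hsurj⟩, fun x => ?_⟩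
  show φ (PresentedGroup.of x) ∈ D
  rw [show φ (PresentedGroup.of x) = im P (Fi24.col x) from PresentedGroup.toGroup.of _]
  exact im_mem P _

universe u

/-- A group of type M(24) is the presented one. -/
theorem exists_iso24 {H : Type u} [Group H] [Finite H] {E : Set H} (hD : Cfsg.IsThreeTranspositionGroup E)
    (hprim : Cfsg.IsPrimitiveUnderConj E) (ht : Cfsg.IsOfTypeM24 H E) :
    ∃ e : Cfsg.Spor.Fi24 ≃* H, ∀ x, e (PresentedGroup.of x) ∈ E := by
  obtain ⟨S⟩ := CosetEnum.Fi23Out.exists_setup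
  obtain ⟨M⟩ := exists_model S hD hprim ht
  exact exists_iso_model M

/-- uniqueness -/
theorem unique24 {G₁ G₂ : Type*} [Group G₁] [Finite G₁] [Group G₂] [Finite G₂] {D₁ : Set G₁} {D₂ : Set G₂}
    (hD₁ : Cfsg.IsThreeTranspositionGroup D₁) (hp₁ : Cfsg.IsPrimitiveUnderConj D₁)
    (ht₁ : Cfsg.IsOfTypeM24 G₁ D₁)
    (hD₂ : Cfsg.IsThreeTranspositionGroup D₂) (hp₂ : Cfsg.IsPrimitiveUnderConj D₂)
    (ht₂ : Cfsg.IsOfTypeM24 G₂ D₂) : ∃ e : G₁ ≃* G₂, e '' D₁ = D₂ := by
  obtain ⟨e₁, h₁⟩ := exists_iso24 hD₁ hp₁ ht₁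
  obtain ⟨e₂, h₂⟩ := exists_iso24 hD₂ hp₂ ht₂
  let a : Cfsg.Spor.Fi24 := PresentedGroup.of .a
  have hx : (e₁.symm.trans e₂) (e₁ a) = e₂ a := by simp
  refine ⟨e₁.symm.trans e₂, Set.ext fun y => ⟨?_, fun hy => ?_⟩⟩
  · rintro ⟨x, hx', rfl⟩
    obtain ⟨g, rfl⟩ := hp₁.1 _ (h₁ .a) x hx'
    rw [map_mul, map_mul, map_inv, hx]
    exact hD₂.2.1 _ _ (h₂ .a)
  · obtain ⟨g, rfl⟩ := hp₂.1 _ (h₂ .a) y hy
    obtain ⟨g, rfl⟩ := (e₁.symm.trans e₂).surjective g
    exact ⟨g * e₁ a * g⁻¹, hD₁.2.1 g _ (h₁ .a), by rw [map_mul, map_mul, map_inv, hx]⟩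

end Cfsg.Agent.Lib.FischerUniq24
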