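import Cfsg.Agent.S1696
import Cfsg.Agent.Lib.FischerUniq24.Gamma

/-! The stabiliser of a pair in the presented Fi23 is large: its orbit on the points has 3240 members. -/

set_option autoImplicit false
set_option maxRecDepth 20000
set_option linter.style.haveILetI false

namespace Cfsg.Agent.Lib.FischerUniq24

open Cfsg.Agent.Lib
open Cfsg.Agent.Lib.CosetEnum.Fi23Out (Setup val zz J sc)
open Cfsg.Agent.Lib.Fi22Mult (Node gen₂₂)

/-- The generators of the pair stabiliser. -/
def kGens : Set G23 := {x | (∃ g ∈ gK, x = val [g]) ∨ x = val tWord}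

/-- The pair stabiliser. -/
def K : Subgroup G23 := Subgroup.closure kGens

theorem node_b_tree : gTree forK (nodeM.getD 1 0) = 0 := by decide +kernel

theorem gK_lt : ∀ g ∈ gK, g < 10 := by decide

theorem letter_mem_K {g : ℕ} (hg : g ∈ gK) : val [g] ∈ K := Subgroup.subset_closure (Or.inl ⟨g, hg, rfl⟩)

theorem tWord_mem_K : val tWord ∈ K := Subgroup.subset_closure (Or.inr rfl)

variable (S : Setup)

/-- The points reached from the base. -/
def Reach (i : Pt) : Prop := ∃ x ∈ K, mv S x Setup.o = i

theorem reach_o : Reach S Setup.o := ⟨1, one_mem _, mv_one S _⟩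

theorem reach_inv : Inv S gK (Reach S) := by
  refine fun g hg i => ⟨?_, ?_⟩
  · rintro ⟨x, hx, hxe⟩
    refine ⟨x * (val [g])⁻¹, mul_mem hx (inv_mem (letter_mem_K hg)), ?_⟩
    rw [mv_mul, hxe, mv_inv]
  · rintro ⟨x, hx, rfl⟩
    exact ⟨x * val [g], mul_mem hx (letter_mem_K hg), mv_mul S _ _ _⟩

include S in
theorem zz_mem_K : zz ∈ K := by
  have h := (gFor_spec S gK_lt forK_ok (reach_inv S) (ndPt 1)).2.2
  rw [show gTree forK (ndPt 1).1 = 0 from
    (congrArg (gTree forK) (ofN_val (nodeM_lt 1 (by norm_num)))).trans node_b_tree] at h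
  obtain ⟨x, hx, hxe⟩ := h.2 (reach_o S)
  have e := tp_mv S x Setup.o
  rw [hxe, tp_node S (by norm_num), S.tp_o] at e
  have hz : zz = x * val [1] * x⁻¹ := by rw [← e]; group
  rw [hz]
  exact mul_mem (mul_mem hx (letter_mem_K (by decide))) (inv_mem hx)

open Classical in
theorem reach_card : 3240 ≤ {i | Reach S i}.ncard := by
  obtain ⟨-, -, -, -, -, -, t0, tt, hlt, -⟩ := gamma_facts
  have hc := counts_ok
  simp only [Bool.and_eq_true, CosetEnum.allBelow_iff, Nat.beq_eq] at hc
  have h1 : Reach S (ofN (rK.getD 1 31671)) := by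
    have h := (gFor_spec S gK_lt forK_ok (reach_inv S) ⟨_, hlt⟩).2.2
    rw [show gTree forK (⟨_, hlt⟩ : Pt).1 = 1 from tt] at h
    refine h.1 ⟨val tWord, tWord_mem_K, Fin.ext ?_⟩
    exact mv_val S pair_facts.2.2.2.2.2.1 Setup.o
  rw [ncard_classes S gK_lt forK_ok (sizes := nK) hc.2 (reach_inv S), show rK.length = 3 from rfl]
  have h0 : Reach S (ofN (rK.getD 0 31671)) := reach_o S
  simp only [Finset.sum_range_succ, Finset.sum_range_zero, if_pos h0, if_pos h1]
  simp only [nK, List.getD_cons_succ, List.getD_cons_zero]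
  omega

include S in
theorem card_base : 9170703360 ≤ Nat.card (K.subgroupOf J) := by
  classical
  obtain ⟨π, -, hker, hπg⟩ := exists_proj S
  have : Finite Cfsg.Spor.Fi22 := Nat.finite_of_card_ne_zero (by rw [Cfsg.Agent.S1696.result.2]; norm_num)
  have : Finite G23 := Nat.finite_of_card_ne_zero (by rw [Cfsg.Agent.S1697.result.2]; norm_num)
  let U := CosetEnum.subOf CosetEnum.Fi22x14080.letters CosetEnum.Fi22x14080.pres CosetEnum.Fi22x14080.subWords
  have hU : Nat.card U = 4585351680 := by
    have h := U.card_mul_index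
    rw [show U.index = 14080 from CosetEnum.Fi22x14080.enum.index, Cfsg.Agent.S1696.result.2] at h
    exact Nat.eq_of_mul_eq_mul_right (by norm_num : 0 < 14080) (h.trans (by norm_num))
  have hgen : ∀ y : Node, idx22 y ∈ gK → gen₂₂ y ∈ (K.subgroupOf J).map π := fun y hy =>
    ⟨⟨_, mem_J_letter _ (by cases y <;> decide)⟩, letter_mem_K hy, hπg y _⟩
  have hle : U ≤ (K.subgroupOf J).map π := by
    refine (Subgroup.closure_le _).2 ?_
    rintro _ ⟨l, hl, rfl⟩
    simp only [CosetEnum.Fi22x14080.subWords, List.mem_cons, List.not_mem_nil, or_false] at hl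
    rcases hl with rfl | rfl | rfl | rfl | rfl | rfl | rfl | rfl <;>
      rw [List.map_cons, List.map_nil, List.prod_singleton]
    exacts [hgen .b (by decide), hgen .c (by decide), hgen .d (by decide), hgen .e (by decide),
      hgen .f (by decide), hgen .g (by decide), hgen .h (by decide), hgen .i (by decide)]
  let f : K.subgroupOf J →* Cfsg.Spor.Fi22 := π.comp (K.subgroupOf J).subtype
  have hr : f.range = (K.subgroupOf J).map π := by
    rw [MonoidHom.range_comp, Subgroup.range_subtype]
  have h2 : 2 ≤ Nat.card f.ker := by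
    let z : f.ker := ⟨⟨⟨zz, Setup.zz_mem⟩, zz_mem_K S⟩, (hker _).2 (Or.inr rfl)⟩
    have hz : z ≠ 1 := fun h => S.zz_ne (congrArg (fun v : f.ker => ((v.1.1 : J) : G23)) h)
    have : Nontrivial f.ker := ⟨⟨z, 1, hz⟩⟩
    exact Finite.one_lt_card
  have h := f.ker.card_mul_index
  rw [Subgroup.index_ker, hr] at h
  have h3 : 4585351680 ≤ Nat.card ((K.subgroupOf J).map π) := hU ▸ Subgroup.card_le_of_le hle
  rw [← h]
  exact le_trans (by norm_num) (Nat.mul_le_mul h2 h3)

include S in
/-- the bound -/
theorem card_K : 29713078886400 ≤ Nat.card K := by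
  classical
  have : Finite G23 := Nat.finite_of_card_ne_zero (by rw [Cfsg.Agent.S1697.result.2]; norm_num)
  choose x hx hxe using fun i : {i // Reach S i} => i.2
  let F : {i // Reach S i} × K.subgroupOf J → K := fun ij =>
    ⟨(ij.2 : J) * x ij.1, mul_mem ij.2.2 (hx _)⟩
  have hF : Function.Injective F := by
    rintro ⟨i, j⟩ ⟨i', j'⟩ h
    have h' : ((j : J) : G23) * x i = ((j' : J) : G23) * x i' := congrArg Subtype.val h
    have e := congrArg (fun v => mv S v Setup.o) h'
    simp only [mv_mul, J_fix S (j : J).2, J_fix S (j' : J).2, hxe] at e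
    obtain rfl := Subtype.ext e
    obtain rfl : j = j' := Subtype.ext (Subtype.ext (mul_right_cancel h'))
    rfl
  have h := Nat.card_le_card_of_injective F hF
  rw [Nat.card_prod] at h
  have h1 : 3240 ≤ Nat.card {i // Reach S i} := by
    rw [show Nat.card {i // Reach S i} = {i | Reach S i}.ncard from Nat.card_coe_set_eq _]
    exact reach_card S
  exact le_trans (le_trans (by norm_num) (Nat.mul_le_mul h1 (card_base S))) h

end Cfsg.Agent.Lib.FischerUniq24
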