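import Cfsg.Agent.S1691
import Cfsg.Agent.Lib.Fi24.Class
import Cfsg.Agent.Lib.FischerUniq24.Glue
import Cfsg.Agent.Lib.FischerUniq24.Stab
import Cfsg.Agent.Lib.FischerUniq24.ForestChecks

/-!
The 306936 points of the presented Fi24 as transpositions: the base goes to `l`, the small suborbit to the perp
set of `l`, the point 2 to the new transposition, and the map follows all twelve letters.
-/

set_option autoImplicit false
set_option maxRecDepth 20000
set_option linter.style.haveILetI false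
set_option linter.unusedSectionVars false

namespace Cfsg.Agent.Lib.FischerUniq24

open Cfsg.Agent.Lib
open Cfsg.Agent.Lib.CosetEnum (allBelow allBelow_iff get32 force_eq)
open Cfsg.Agent.Lib.CosetEnum.Fi23Out (Setup val zz J sc)
open Cfsg.Agent.Lib.Fi22Mult (Node gen₂₂)
open Cfsg.Agent.Lib.Fi24 (xg emb small_spec)
open Cfsg.Agent.Lib.Fi24.Out (OFacts)

attribute [local irreducible] CosetEnum.Fi23x31671.table Fi24.table Fi24.small Fi24.big Fi24.subPos Fi24.tree theta forP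

/-- The presented Fi24. -/
abbrev G24 : Type := Fi24.G

/-- Its points. -/
abbrev Pt24 : Type := Fin 306936

/-- The point of the new letter. -/
def pt2 : Pt24 := ⟨2, by omega⟩

theorem subPos_facts : Fi24.Cert.col19 Fi24.subPos 0 < 31671 ∧ 31671 ≤ Fi24.Cert.col19 Fi24.subPos 2 := by
  decide +kernel

theorem sigL_eq : ∀ y : Node, sigL.getD (idx22 y) 0 = idx22 (flip22 y) + 2 := fun y => by
  cases y <;> rfl

theorem nine_idx : ∀ g ∈ nine, ∃ y, idx22 y = g := fun g hg => by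
  simp only [nine, List.mem_cons, List.not_mem_nil, or_false] at hg
  rcases hg with rfl | rfl | rfl | rfl | rfl | rfl | rfl | rfl | rfl
  exacts [⟨.a, rfl⟩, ⟨.b, rfl⟩, ⟨.c, rfl⟩, ⟨.d, rfl⟩, ⟨.e, rfl⟩, ⟨.f, rfl⟩, ⟨.g, rfl⟩, ⟨.h, rfl⟩, ⟨.i, rfl⟩]

theorem mem_H {g : ℕ} (hg : g < 12) (h1 : g ≠ 1) : xg g ∈ Fi24.H :=
  Subgroup.subset_closure ⟨g, hg, h1, rfl⟩

theorem val_mem_H : ∀ w : List ℕ, (∀ g ∈ w, g < 10) → Fi24.Out.val (w.map (· + 2)) ∈ Fi24.H
  | [], _ => one_mem _
  | g :: w, h => by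
    have : Fi24.Out.val ((g :: w).map (· + 2)) = xg (g + 2) * Fi24.Out.val (w.map (· + 2)) := by
      simp [Fi24.Out.val]
    rw [this]
    exact mul_mem (mem_H (by have := h g List.mem_cons_self; omega) (by omega))
      (val_mem_H w fun a ha => h a (List.mem_cons_of_mem _ ha))

theorem parity_xg (g : ℕ) : Cfsg.Agent.S1691.parity (xg g) ≠ 1 := by
  rw [show Cfsg.Agent.S1691.parity (xg g) = Multiplicative.ofAdd (1 : ZMod 2) from PresentedGroup.toGroup.of _]
  decide

theorem parity_odd : ∀ w : List ℕ, Odd w.length → Cfsg.Agent.S1691.parity (Fi24.Out.val w) ≠ 1 := by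
  have h : ∀ w : List ℕ, Cfsg.Agent.S1691.parity (Fi24.Out.val w) =
      Multiplicative.ofAdd (1 : ZMod 2) ^ w.length := by
    intro w
    induction w with
    | nil => rw [List.length_nil, pow_zero]; exact map_one _
    | cons g w ih =>
      rw [Fi24.Out.val, List.map_cons, List.prod_cons, map_mul, List.length_cons, pow_succ', ← ih, Fi24.Out.val]
      congr 1
  intro w ⟨k, hk⟩
  rw [h, hk, pow_succ, pow_mul, show Multiplicative.ofAdd (1 : ZMod 2) ^ 2 = 1 by decide, one_pow, one_mul]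
  decide

variable {G : Type*} [Group G] {D : Set G}

namespace Frame

variable {S : Setup} {d : G} (F : Frame S D d)

theorem hom_letter (hd : d * d = 1) {g : ℕ} (hg : g < 10) : F.hom (val [g]) * d = F.pt (ndPt g) := by
  rw [← tp_node S hg, ← F.pt_eq hd]

/-- A letter moves the points as its point conjugates. -/
theorem pt_letter (hd : d * d = 1) {g : ℕ} (hg : g < 10) (m : Pt) :
    F.pt (mv S (val [g]) m) = (F.pt (ndPt g))⁻¹ * F.pt m * F.pt (ndPt g) := by
  rw [← F.eqv, ← F.hom_letter hd hg, mul_inv_rev]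
  have h : Commute d ((F.hom (val [g]))⁻¹ * F.pt m * F.hom (val [g])) :=
    ((F.hom_comm _).inv_right.mul_right (F.comm_pt m)).mul_right (F.hom_comm _)
  calc (F.hom (val [g]))⁻¹ * F.pt m * F.hom (val [g])
      = d⁻¹ * (d * ((F.hom (val [g]))⁻¹ * F.pt m * F.hom (val [g]))) := by group
    _ = _ := by rw [h.eq]; group

end Frame

variable {S : Setup} (O : OFacts)

theorem exists_sigma (S : Setup) : ∃ σ : Fi24.H →* G23,
    ∀ x : Fi24.H, ∀ m, O.mv x.1 (emb m) = emb (mv S (σ x) m) := by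
  have hgen : ∀ g < 10, ∀ m, O.mv (xg (g + 2)) (emb m) = emb (mv S (val [g]) m) := by
    intro g hg m
    apply Fin.ext
    rw [O.mv_xg (by omega)]
    show _ = Fi24.Cert.col19 Fi24.small _
    rw [mv_letter S hg]
    exact (small_spec m.2).2.2.2.2 g hg
  have hl : ∀ m, O.mv (xg 0) (emb m) = emb (mv S 1 m) := by
    intro m
    rw [mv_one]
    exact Fin.ext ((O.mv_xg (by omega) (emb m)).trans (small_spec m.2).2.2.2.1)
  have hex : ∀ x ∈ Fi24.H, ∃ z, ∀ m, O.mv x (emb m) = emb (mv S z m) := by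
    intro x hx
    induction hx using Subgroup.closure_induction with
    | mem a ha =>
      obtain ⟨g, hg, hg1, rfl⟩ := ha
      rcases Nat.eq_zero_or_pos g with rfl | hpos
      · exact ⟨1, hl⟩
      · refine ⟨val [g - 2], fun m => ?_⟩
        have h := hgen (g - 2) (by omega) m
        rwa [show g - 2 + 2 = g by omega] at h
    | one => exact ⟨1, fun m => by rw [O.mv_one, mv_one]⟩
    | mul a b _ _ ha hb =>
      obtain ⟨u, hu⟩ := ha
      obtain ⟨v, hv⟩ := hb
      exact ⟨u * v, fun m => by rw [O.mv_mul, hu, hv, mv_mul]⟩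
    | inv a _ ha =>
      obtain ⟨u, hu⟩ := ha
      refine ⟨u⁻¹, fun m => ?_⟩
      have h := hu (mv S u⁻¹ m)
      rw [mv_inv'] at h
      rw [← h, O.mv_inv]
  choose f hf using fun x : Fi24.H => hex x.1 x.2
  have huniq : ∀ u v : G23, (∀ m, emb (mv S u m) = emb (mv S v m)) → u = v := fun u v h =>
    S.inj (inv_injective (Equiv.ext fun m => Fi24.emb_injective (h m)))
  exact ⟨MonoidHom.mk' f fun a b => huniq _ _ fun m => by
    rw [← hf, Subgroup.coe_mul, O.mv_mul, hf, hf, mv_mul], hf⟩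

/-- The data of the map. -/
structure Base (P : Pair S D) where
  /-- the map on the stabiliser -/
  hom : Fi24.H →* G
  hom_letter : ∀ g < 10, ∀ h : xg (g + 2) ∈ Fi24.H, hom ⟨_, h⟩ = P.Fl.pt (ndPt g)
  hom_l : ∀ h : xg 0 ∈ Fi24.H, hom ⟨_, h⟩ = P.l
  comm : ∀ x, Commute P.l (hom x)
  small : ∀ x : Fi24.H, ∀ m, ∃ n, O.mv x.1 (emb m) = emb n ∧ (hom x)⁻¹ * P.Fl.pt m * hom x = P.Fl.pt n
  fix2 : ∀ x : Fi24.H, O.mv x.1 pt2 = pt2 → Commute (P.FX.pt (ndPt 7)) (hom x)

theorem emb_orbit : ∀ (x : Fi24.H) (m : Pt), O.mv x.1 pt2 ≠ emb m := by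
  obtain ⟨S⟩ := CosetEnum.Fi23Out.exists_setup
  obtain ⟨σ, hσ⟩ := exists_sigma O S
  intro x m h
  have h' : pt2 = emb (mv S (σ x⁻¹) m) := by
    rw [← hσ, ← h, Subgroup.coe_inv, O.mv_inv]
  have e := (small_spec (mv S (σ x⁻¹) m).2).2.2.1
  have e2 : Fi24.Cert.col19 Fi24.small (mv S (σ x⁻¹) m).1 = 2 := (congrArg Fin.val h').symm
  rw [e2] at e
  have := subPos_facts.2
  omega

theorem pt0_orbit (x : Fi24.H) : O.mv x.1 pt2 ≠ Fi24.pt0 := by
  intro h
  rw [← (O.mem_H x.1).1 x.2] at h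
  exact absurd (congrArg Fin.val ((O.mv x.1).injective h)) (by decide)

/-- The three suborbits. -/
theorem orbits (p : Pt24) : p = Fi24.pt0 ∨ (∃ m, emb m = p) ∨ ∃ x : Fi24.H, O.mv x.1 pt2 = p := by
  obtain ⟨S⟩ := CosetEnum.Fi23Out.exists_setup
  obtain ⟨σ, hσ⟩ := exists_sigma O S
  rcases O.suborbit p with h | ⟨x, hx, r, hr | hr, rfl⟩
  · exact Or.inl h
  · right; left
    refine ⟨mv S (σ ⟨x, hx⟩) ⟨0, by omega⟩, ?_⟩
    rw [← hσ, show r = emb ⟨0, by omega⟩ from Fin.ext hr]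
  · right; right
    rcases O.suborbit pt2 with h | ⟨y, hy, r', hr' | hr', h⟩
    · exact absurd (congrArg Fin.val h) (by decide)
    · exfalso
      have h' := hσ ⟨y, hy⟩ ⟨0, by omega⟩
      rw [show emb ⟨0, by omega⟩ = r' from (Fin.ext hr').symm, h] at h'
      refine emb_orbit O 1 (mv S (σ ⟨y, hy⟩) ⟨0, by omega⟩) ?_
      rw [Subgroup.coe_one, O.mv_one]
      exact h'
    · refine ⟨⟨y⁻¹ * x, mul_mem (inv_mem hy) hx⟩, ?_⟩
      rw [show r = r' from Fin.ext (hr.trans hr'.symm), ← h, O.mv_mul, O.mv_inv]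

theorem card_stab (S0 : Subgroup Fi24.H) (h : ∀ x, x ∈ S0 ↔ O.mv (x : G24) pt2 = pt2) :
    Nat.card S0 ≤ 29713078886400 ∧ Finite S0 := by
  classical
  obtain ⟨ρ, σ, -, -, -, -, -, -, -, hcard, -, -⟩ := Fi24.hFacts
  have : Finite Fi24.H := Nat.finite_of_card_ne_zero (by rw [hcard]; norm_num)
  refine ⟨?_, inferInstance⟩
  have hex : ∀ j : Fin 275264, ∃ x : Fi24.H, (O.mv x.1 pt2).1 = Fi24.Cert.col19 Fi24.big j.1 := by
    intro j
    have hb := allBelow_iff.1 Fi24.bigAt_ok j.1 j.2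
    simp only [Fi24.bigAt, force_eq, Bool.and_eq_true, Nat.blt_eq, Nat.beq_eq] at hb
    have hpos : Fi24.Cert.col19 Fi24.subPos (Fi24.Cert.col19 Fi24.big j.1) = 31671 + j.1 := hb.1.2
    rcases orbits O ⟨_, hb.1.1⟩ with e | ⟨m, e⟩ | ⟨x, e⟩
    · exfalso
      have e' : Fi24.Cert.col19 Fi24.big j.1 = 0 := congrArg Fin.val e
      rw [e'] at hpos
      have := subPos_facts.1
      omega
    · exfalso
      have e' : Fi24.Cert.col19 Fi24.small m.1 = Fi24.Cert.col19 Fi24.big j.1 := congrArg Fin.val e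
      rw [← e', (small_spec m.2).2.2.1] at hpos
      have := m.2
      omega
    · exact ⟨x, congrArg Fin.val e⟩
  choose x hx using hex
  let F : Fin 275264 × S0 → Fi24.H := fun js => js.2.1 * x js.1
  have hF : Function.Injective F := by
    rintro ⟨j, s⟩ ⟨j', s'⟩ e
    have e' : s.1 * x j = s'.1 * x j' := e
    have e1 := congrArg (fun v : Fi24.H => (O.mv v.1 pt2).1) e'
    simp only [Subgroup.coe_mul, O.mv_mul, (h _).1 s.2, (h _).1 s'.2, hx] at e1
    have hb : ∀ i : Fin 275264,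
        Fi24.Cert.col19 Fi24.subPos (Fi24.Cert.col19 Fi24.big i.1) = 31671 + i.1 := fun i => by
      have hb := allBelow_iff.1 Fi24.bigAt_ok i.1 i.2
      simp only [Fi24.bigAt, force_eq, Bool.and_eq_true, Nat.blt_eq, Nat.beq_eq] at hb
      exact hb.1.2
    obtain rfl : j = j' := Fin.ext (by
      have h1 := hb j
      rw [e1, hb j'] at h1
      omega)
    obtain rfl : s = s' := Subtype.ext (mul_right_cancel e')
    rfl
  have := Nat.card_le_card_of_injective F hF
  rw [Nat.card_prod, hcard, Nat.card_eq_fintype_card, Fintype.card_fin] at this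
  omega

variable (M : Model S D) (P : Pair S D)

include M in
theorem exists_base : Nonempty (Base O P) := by
  classical
  obtain ⟨σ, hσ⟩ := exists_sigma O S
  have hll := M.sq P.l P.hl
  have huniq : ∀ u v : G23, (∀ m, emb (mv S u m) = emb (mv S v m)) → u = v := fun u v h =>
    S.inj (inv_injective (Equiv.ext fun m => Fi24.emb_injective (h m)))
  let s : Multiplicative (ZMod 2) →* G := MonoidHom.mk' (fun e => if e = 1 then 1 else P.l) (by
    have h2 : ∀ e : Multiplicative (ZMod 2), e = 1 ∨ e = Multiplicative.ofAdd 1 := by decide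
    intro a b
    show (if a * b = 1 then 1 else P.l) = (if a = 1 then 1 else P.l) * (if b = 1 then 1 else P.l)
    rcases h2 a with rfl | rfl <;> rcases h2 b with rfl | rfl
    · simp
    · simp
    · simp
    · rw [if_pos (show Multiplicative.ofAdd (1 : ZMod 2) * Multiplicative.ofAdd (1 : ZMod 2) = 1 by decide),
        if_neg (show ¬ Multiplicative.ofAdd (1 : ZMod 2) = 1 by decide), hll])
  have hs : ∀ e, s e = 1 ∨ s e = P.l := fun e => by
    show (if e = 1 then 1 else P.l) = 1 ∨ (if e = 1 then 1 else P.l) = P.l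
    split_ifs <;> simp
  let pr : Fi24.H →* Multiplicative (ZMod 2) := Cfsg.Agent.S1691.parity.comp Fi24.H.subtype
  have hcs : ∀ e x, Commute (s e) (P.Fl.hom x) := fun e x => by
    rcases hs e with h | h <;> rw [h]
    exacts [Commute.one_left _, P.Fl.hom_comm x]
  let Φ : Fi24.H →* G := MonoidHom.mk' (fun x => P.Fl.hom (σ x) * s (pr x)) fun a b => by
    rw [map_mul, map_mul, map_mul, map_mul]
    calc P.Fl.hom (σ a) * P.Fl.hom (σ b) * (s (pr a) * s (pr b))
        = P.Fl.hom (σ a) * (P.Fl.hom (σ b) * s (pr a)) * s (pr b) := by group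
      _ = _ := by rw [← (hcs _ _).eq]; group
  have hσl : ∀ g < 10, ∀ h : xg (g + 2) ∈ Fi24.H, σ ⟨_, h⟩ = val [g] := fun g hg h => huniq _ _ fun m => by
    rw [← hσ]
    apply Fin.ext
    show (O.mv (xg (g + 2)) (emb m)).1 = _
    rw [O.mv_xg (by omega)]
    show _ = Fi24.Cert.col19 Fi24.small _
    rw [mv_letter S hg]
    exact (small_spec m.2).2.2.2.2 g hg
  have hσv : ∀ w : List ℕ, (hw : ∀ g ∈ w, g < 10) → σ ⟨_, val_mem_H w hw⟩ = val w := by
    intro w
    induction w with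
    | nil => intro hw; exact map_one σ
    | cons g w ih =>
      intro hw
      have hg := hw g List.mem_cons_self
      have hw' : ∀ a ∈ w, a < 10 := fun a ha => hw a (List.mem_cons_of_mem _ ha)
      rw [show (⟨_, val_mem_H (g :: w) hw⟩ : Fi24.H) =
          ⟨_, mem_H (g := g + 2) (by omega) (by omega)⟩ * ⟨_, val_mem_H w hw'⟩ from Subtype.ext (by simp [Fi24.Out.val]),
        map_mul, hσl g hg, ih hw', ← CosetEnum.Fi23Out.val_append]
      rfl
  have hΦodd : ∀ x : Fi24.H, pr x ≠ 1 → ∀ {m : Pt}, σ x = S.tp m → Φ x = P.Fl.pt m := by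
    intro x hx m hm
    show P.Fl.hom (σ x) * (if pr x = 1 then 1 else P.l) = _
    rw [if_neg hx, hm, P.Fl.pt_eq hll]
  have hΦlet : ∀ g < 10, ∀ h : xg (g + 2) ∈ Fi24.H, Φ ⟨_, h⟩ = P.Fl.pt (ndPt g) := fun g hg h =>
    hΦodd _ (parity_xg _) ((hσl g hg h).trans (tp_node S hg).symm)
  obtain ⟨-, -, -, hP2, htw, hlt, hodd, hrT, hrlt⟩ := pair_facts
  have htσ : σ ⟨_, val_mem_H tWord hlt⟩ = S.tp (ofN 23118) :=
    (hσv tWord hlt).trans (S.tp_word hrlt (by rw [ofN_val (by norm_num)]; exact hrT)).symm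
  have ht : Φ ⟨_, val_mem_H tWord hlt⟩ = P.Fl.pt (ofN 23118) :=
    hΦodd _ (parity_odd (tWord.map (· + 2)) (by rwa [List.length_map])) htσ
  let S0 : Subgroup Fi24.H :=
    { carrier := {x | O.mv x.1 pt2 = pt2}
      one_mem' := O.mv_one _
      mul_mem' := fun {a b} ha hb => by
        show O.mv (a.1 * b.1) pt2 = pt2
        rw [O.mv_mul, show O.mv a.1 pt2 = pt2 from ha, show O.mv b.1 pt2 = pt2 from hb]
      inv_mem' := fun {a} ha => by
        show O.mv a.1⁻¹ pt2 = pt2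
        conv_lhs => rw [← show O.mv a.1 pt2 = pt2 from ha]
        exact O.mv_inv _ _ }
  obtain ⟨hle, hfin⟩ := card_stab O S0 fun x => Iff.rfl
  let A : Set Fi24.H := {x | (∃ g ∈ gK, x.1 = xg (g + 2)) ∨ x.1 = Fi24.Out.val (tWord.map (· + 2))}
  have hA : Subgroup.closure A ≤ S0 := by
    refine (Subgroup.closure_le _).2 ?_
    rintro x (⟨g, hg, hx⟩ | hx)
    · show O.mv x.1 pt2 = pt2
      rw [hx]
      refine Fin.ext ((O.mv_xg (by have := gK_lt g hg; omega) pt2).trans (hP2 _ ?_))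
      exact (show ∀ g ∈ gK, g + 2 ∈ gP by decide) g hg
    · show O.mv x.1 pt2 = pt2
      rw [hx]
      refine Fin.ext ((O.mv_val _ (fun a ha => ?_) pt2).trans htw)
      obtain ⟨b, hb, rfl⟩ := List.mem_map.1 ha
      have := hlt b hb
      omega
  have hcardA : 29713078886400 ≤ Nat.card (Subgroup.closure A) := by
    have : Finite G23 := Nat.finite_of_card_ne_zero (by rw [Cfsg.Agent.S1697.result.2]; norm_num)
    have : Finite (Subgroup.closure A) := Finite.of_injective _ (Subgroup.inclusion_injective hA)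
    refine le_trans (card_K S) (le_trans (Subgroup.card_le_of_le (K := (Subgroup.closure A).map σ) ?_) ?_)
    · refine (Subgroup.closure_le _).2 ?_
      rintro x (⟨g, hg, rfl⟩ | rfl)
      · have hm : xg (g + 2) ∈ Fi24.H := mem_H (by have := gK_lt g hg; omega) (by omega)
        exact ⟨⟨_, hm⟩, Subgroup.subset_closure (Or.inl ⟨g, hg, rfl⟩), hσl g (gK_lt g hg) hm⟩
      · exact ⟨⟨_, val_mem_H tWord hlt⟩, Subgroup.subset_closure (Or.inr rfl), hσv tWord hlt⟩
    · exact Nat.card_le_card_of_surjective (fun x : Subgroup.closure A => (⟨σ x.1, x.1, x.2, rfl⟩ : (Subgroup.closure A).map σ))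
        fun ⟨_, y, hy, rfl⟩ => ⟨⟨y, hy⟩, rfl⟩
  have heq : Subgroup.closure A = S0 := Subgroup.eq_of_le_of_card_ge hA (le_trans hle hcardA)
  refine ⟨⟨Φ, hΦlet, fun h => ?_, fun x => ?_, fun x m => ?_, fun x hx => ?_⟩⟩
  · show P.Fl.hom (σ ⟨_, h⟩) * (if pr ⟨_, h⟩ = 1 then 1 else P.l) = _
    rw [if_neg (show ¬ pr ⟨_, h⟩ = 1 from parity_xg 0), show σ ⟨_, h⟩ = 1 from huniq _ _ fun m => by
      rw [← hσ, mv_one]
      exact Fin.ext ((O.mv_xg (by omega) (emb m)).trans (small_spec m.2).2.2.2.1), map_one, one_mul]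
  · show Commute P.l (P.Fl.hom (σ x) * s (pr x))
    refine (P.Fl.hom_comm _).mul_right ?_
    rcases hs (pr x) with h | h <;> rw [h]
    exacts [Commute.one_right _, Commute.refl _]
  · refine ⟨_, hσ x m, ?_⟩
    show (P.Fl.hom (σ x) * s (pr x))⁻¹ * P.Fl.pt m * (P.Fl.hom (σ x) * s (pr x)) = _
    rw [← P.Fl.eqv]
    have hc : Commute (s (pr x)) ((P.Fl.hom (σ x))⁻¹ * P.Fl.pt m * P.Fl.hom (σ x)) := by
      rw [P.Fl.eqv]
      rcases hs (pr x) with h | h <;> rw [h]
      exacts [Commute.one_left _, P.Fl.comm_pt _]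
    calc (P.Fl.hom (σ x) * s (pr x))⁻¹ * P.Fl.pt m * (P.Fl.hom (σ x) * s (pr x))
        = (s (pr x))⁻¹ * ((P.Fl.hom (σ x))⁻¹ * P.Fl.pt m * P.Fl.hom (σ x) * s (pr x)) := by group
      _ = _ := by rw [← hc.eq]; group
  · have hxA : x ∈ Subgroup.closure A := heq ▸ hx
    induction hxA using Subgroup.closure_induction with
    | mem a ha =>
      rcases ha with ⟨g, hg, ha⟩ | ha
      · have hm : xg (g + 2) ∈ Fi24.H := mem_H (by have := gK_lt g hg; omega) (by omega)
        rw [show a = ⟨_, hm⟩ from Subtype.ext ha, hΦlet g (gK_lt g hg)]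
        exact P.comm_K g hg
      · rw [show a = ⟨_, val_mem_H tWord hlt⟩ from Subtype.ext ha, ht]
        exact P.comm_t
    | one => rw [map_one]; exact Commute.one_right _
    | mul a b ha hb iha ihb =>
      rw [map_mul]
      exact (iha (hA ha)).mul_right (ihb (hA hb))
    | inv a ha iha => rw [map_inv]; exact (iha (hA ha)).inv_right

variable {O} {P}
variable (B : Base O P)

open Classical in
/-- The transposition of a point. -/
noncomputable def img (p : Pt24) : G :=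
  if h : ∃ x : Fi24.H, O.mv x.1 pt2 = p then
    (B.hom h.choose)⁻¹ * P.FX.pt (ndPt 7) * B.hom h.choose
  else if p = Fi24.pt0 then P.l else P.Fl.pt (ofN (Fi24.Cert.col19 Fi24.subPos p.1))

theorem img_orbit (x : Fi24.H) :
    img B (O.mv x.1 pt2) = (B.hom x)⁻¹ * P.FX.pt (ndPt 7) * B.hom x := by
  have h : ∃ y : Fi24.H, O.mv y.1 pt2 = O.mv x.1 pt2 := ⟨x, rfl⟩
  rw [img, dif_pos h]
  set y := h.choose with hy
  have hf : O.mv (y * x⁻¹).1 pt2 = pt2 := by
    rw [Subgroup.coe_mul, O.mv_mul, hy, h.choose_spec, Subgroup.coe_inv, O.mv_inv]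
  have hc := B.fix2 _ hf
  rw [show y = y * x⁻¹ * x by group, map_mul, mul_inv_rev]
  calc (B.hom x)⁻¹ * (B.hom (y * x⁻¹))⁻¹ * P.FX.pt (ndPt 7) * (B.hom (y * x⁻¹) * B.hom x)
      = (B.hom x)⁻¹ * ((B.hom (y * x⁻¹))⁻¹ * (P.FX.pt (ndPt 7) * B.hom (y * x⁻¹))) * B.hom x := by group
    _ = _ := by rw [hc.eq]; group

theorem img_two : img B pt2 = P.FX.pt (ndPt 7) := by
  have h := img_orbit B 1
  rwa [Subgroup.coe_one, O.mv_one, map_one, inv_one, one_mul, mul_one] at h

theorem img_zero : img B Fi24.pt0 = P.l := by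
  rw [img, dif_neg (by rintro ⟨x, hx⟩; exact pt0_orbit O x hx), if_pos rfl]

theorem img_emb (m : Pt) : img B (emb m) = P.Fl.pt m := by
  rw [img, dif_neg (by rintro ⟨x, hx⟩; exact emb_orbit O x m hx),
    if_neg (fun e => by
      have := (small_spec m.2).2.1
      have e' : Fi24.Cert.col19 Fi24.small m.1 = 0 := congrArg Fin.val e
      omega)]
  show P.Fl.pt (ofN (Fi24.Cert.col19 Fi24.subPos (Fi24.Cert.col19 Fi24.small m.1))) = _
  rw [(small_spec m.2).2.2.1, ofN_self]

theorem img_hom (x : Fi24.H) (p : Pt24) : img B (O.mv x.1 p) = (B.hom x)⁻¹ * img B p * B.hom x := by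
  rcases orbits O p with rfl | ⟨m, rfl⟩ | ⟨y, rfl⟩
  · rw [(O.mem_H x.1).1 x.2, img_zero, mul_assoc, (B.comm x).eq, inv_mul_cancel_left]
  · obtain ⟨n, h1, h2⟩ := B.small x m
    rw [h1, img_emb, img_emb, h2]
  · rw [← O.mv_mul, ← Subgroup.coe_mul, img_orbit, img_orbit, map_mul, mul_inv_rev]
    group

/-- A point of the second copy. -/
theorem th_spec (m : Pt) : th m.1 < 306936 ∧
    ∀ g < 10, Fi24.Cert.tget Fi24.table (th m.1) (sigL.getD g 0) = th (step23 m.1 g) := by
  have h := allBelow_iff.1 theta_ok m.1 m.2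
  simp only [thetaAt, force_eq, Bool.and_eq_true, Nat.blt_eq, Nat.beq_eq, allBelow_iff] at h
  exact h

/-- The second copy. -/
noncomputable def thPt (S : Setup) (m : Pt) : Pt24 := ⟨th m.1, (th_spec m).1⟩

theorem theta_letter (m : Pt) {g : ℕ} (hg : g < 10) :
    thPt S (mv S (val [g]) m) = O.mv (xg (sigL.getD g 0)) (thPt S m) := by
  refine Fin.ext ?_
  rw [O.mv_xg ((show ∀ g < 10, sigL.getD g 0 < 12 by decide) g hg)]
  show th (mv S (val [g]) m).1 = _
  rw [mv_letter S hg]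
  exact ((th_spec m).2 g hg).symm

include M in
theorem img_theta : ∀ m, img B (thPt S m) = P.FX.pt m := by
  have hXX := M.sq (P.Fl.pt Setup.o) (P.Fl.pt_D _)
  refine nine_classes S (P := fun m => img B (thPt S m) = P.FX.pt m) (fun g hg m => ?_) ?_ ?_ ?_
  · obtain ⟨y, rfl⟩ := nine_idx g hg
    have h1 := idx22_lt (flip22 y)
    have hm : xg (idx22 (flip22 y) + 2) ∈ Fi24.H := mem_H (by omega) (by omega)
    show img B (thPt S (mv S _ m)) = P.FX.pt (mv S _ m) ↔ _
    rw [theta_letter (O := O) m (idx22_lt y), sigL_eq, img_hom B ⟨_, hm⟩, B.hom_letter _ h1 hm,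
      P.FX.pt_letter hXX (idx22_lt y), ← P.glue, flip_flip, mul_left_inj, mul_right_inj]
  · have h : thPt S Setup.o = Fi24.pt0 := Fin.ext small_facts.1
    show img B (thPt S Setup.o) = _
    rw [h, img_zero, P.base]
  · have hn : th (nodeM.getD 0 0) = Fi24.Cert.col19 Fi24.small (nodeM.getD 6 0) :=
      small_facts.2.2.2.1 0 (by norm_num) (by norm_num)
    have h : thPt S (ndPt 0) = emb (ndPt 6) := Fin.ext (by
      show th (ndPt 0).1 = Fi24.Cert.col19 Fi24.small (ndPt 6).1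
      rw [ndPt, ndPt, ofN_val (nodeM_lt 0 (by norm_num)), ofN_val (nodeM_lt 6 (by norm_num))]
      exact hn)
    show img B (thPt S (ndPt 0)) = _
    rw [h, img_emb]
    exact (P.glue .g).symm
  · have h : thPt S (ndPt 7) = pt2 := Fin.ext (by
      show th (ndPt 7).1 = 2
      rw [ndPt, ofN_val (nodeM_lt 7 (by norm_num))]
      exact small_facts.2.1)
    show img B (thPt S (ndPt 7)) = _
    rw [h, img_two]

theorem comm_k {g : ℕ} (hg : g ∈ gP) : xg g * xg 1 = xg 1 * xg g := by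
  obtain ⟨h12, hne, hj⟩ := (show ∀ g ∈ gP, g < 12 ∧ g ≠ 1 ∧ Fi24.joined g 1 = false by decide +kernel) g hg
  have h := Fi24.xg_pow h12 (show 1 < 12 by norm_num)
  rw [if_neg hne, hj, if_neg Bool.false_ne_true, pow_two] at h
  have h' := mul_eq_one_iff_eq_inv.1 h
  rwa [mul_inv_rev, Fi24.xg_inv h12, Fi24.xg_inv (show 1 < 12 by norm_num)] at h'

include M in
theorem img_k : ∀ p : Pt24, img B (O.mv (xg 1) p) =
    (P.FX.pt (ndPt 7))⁻¹ * img B p * P.FX.pt (ndPt 7) := by
  suffices h : ∀ d, ∀ p : Pt24, pDepth p.1 = d → img B (O.mv (xg 1) p) =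
      (P.FX.pt (ndPt 7))⁻¹ * img B p * P.FX.pt (ndPt 7) from fun p => h _ p rfl
  intro d
  induction d using Nat.strong_induction_on with
  | _ d ih =>
    intro p hd
    have hf := allBelow_iff.1 forest_ok p.1 p.2
    simp only [pFor, force_eq] at hf
    change Bool.rec _ (rTheta.any (fun x => Nat.beq x.1 p.1) || Nat.beq rSmall.1 p.1)
      (Nat.beq (pDepth p.1) 0) = true at hf
    rw [hd] at hf
    rcases Nat.eq_zero_or_pos d with rfl | hpos
    · change (rTheta.any (fun x => Nat.beq x.1 p.1) || Nat.beq rSmall.1 p.1) = true at hf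
      simp only [Bool.or_eq_true, List.any_eq_true, Nat.beq_eq] at hf
      rcases hf with ⟨x, hx, hxp⟩ | hp
      · obtain ⟨hlt, hth⟩ := small_facts.2.2.2.2.1 x hx
        have e : p = thPt S ⟨x.2, hlt⟩ := Fin.ext (hxp.symm.trans hth.symm)
        rw [e, show xg 1 = xg (sigL.getD 7 0) from rfl, ← theta_letter (O := O) _ (by norm_num),
          img_theta M B, img_theta M B, P.FX.pt_letter (M.sq _ (P.Fl.pt_D _)) (by norm_num)]
      · have e : p = emb (ofN 23118) := Fin.ext (by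
          show p.1 = Fi24.Cert.col19 Fi24.small (ofN 23118).1
          rw [ofN_val (by norm_num), ← hp]
          exact small_facts.2.2.2.2.2.1.symm)
        have hfix : O.mv (xg 1) p = p := Fin.ext (by
          rw [O.mv_xg (by norm_num), ← hp]
          exact small_facts.2.2.2.2.2.2)
        rw [hfix, e, img_emb, mul_assoc, ← P.comm_t.eq, inv_mul_cancel_left]
    · rw [show Nat.beq d 0 = false from by rw [← Bool.not_eq_true, Nat.beq_eq]; omega] at hf
      simp only [Bool.and_eq_true, Nat.blt_eq, Nat.beq_eq, List.any_eq_true] at hf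
      obtain ⟨⟨⟨hq, g', hg', hgg⟩, hstep⟩, hdep⟩ := hf
      rw [← hgg] at hstep
      generalize hqdef : Nat.div (Nat.div (col30 forP p.1) 128) 16 = q at hq hstep hdep
      change pDepth q < pDepth p.1 at hdep
      have hgP := (show ∀ g ∈ gP, g < 12 ∧ g ≠ 1 ∧ 2 ≤ g ∧ g - 2 ∈ gK ∧ g - 2 < 10 by decide) g' hg'
      obtain ⟨h12, hg1, hge, hK, hlt10⟩ := hgP
      have hpq : p = O.mv (xg g') ⟨q, hq⟩ := Fin.ext ((O.mv_xg h12 ⟨q, hq⟩).trans hstep).symm
      have hc := P.comm_K _ hK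
      have hm : xg (g' - 2 + 2) ∈ Fi24.H := mem_H (by omega) (by omega)
      have hmove : ∀ r, img B (O.mv (xg g') r) =
          (P.Fl.pt (ndPt (g' - 2)))⁻¹ * img B r * P.Fl.pt (ndPt (g' - 2)) := fun r => by
        have e := img_hom B ⟨_, hm⟩ r
        rw [B.hom_letter _ hlt10 hm] at e
        simpa only [show g' - 2 + 2 = g' by omega] using e
      rw [hpq, ← O.mv_mul, comm_k hg', O.mv_mul, hmove, hmove, ih _ (hd ▸ hdep) ⟨q, hq⟩ rfl]
      set u := P.FX.pt (ndPt 7)
      set z := P.Fl.pt (ndPt (g' - 2))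
      calc z⁻¹ * (u⁻¹ * img B ⟨q, hq⟩ * u) * z
          = (u * z)⁻¹ * img B ⟨q, hq⟩ * (u * z) := by group
        _ = _ := by rw [hc.eq]; group

end Cfsg.Agent.Lib.FischerUniq24
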